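import Groth.Agent.MagnetEtale.Main
import Mathlib

/-!
# The cartesian square of attractors for an étale equivariant map
-/

set_option autoImplicit false
set_option backward.isDefEq.respectTransparency false
set_option backward.isDefEq.respectTransparency.types false
set_option linter.style.haveILetI false
set_option linter.unusedSimpArgs false
set_option maxHeartbeats 1000000
set_option synthInstance.maxHeartbeats 100000

universe u

open CategoryTheory CategoryTheory.Limits MonoidalCategory CartesianMonoidalCategory MonObj AlgebraicGeometry Opposite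
open Magnet

namespace Groth.Agent.MagnetEtale

variable {S : Scheme.{u}}

/-- The affine open cover of an object over `S` is a covering family. -/
theorem isSheafFor_affineOpens {F : (Over S)ᵒᵖ ⥤ Type u} (hF : Presheaf.IsSheaf (Scheme.zariskiTopology.over S) F)
    (T : Over S) :
    (Presieve.ofArrows (fun i : T.left.affineOpens => Over.mk (i.1.ι ≫ T.hom))
      (fun i => (Over.homMk i.1.ι rfl : Over.mk (i.1.ι ≫ T.hom) ⟶ T))).IsSheafFor F := by
  refine Presieve.isSheafFor_iff_generate _ |>.2 (((isSheaf_iff_isSheaf_of_type _ _).1 hF) _ ?_)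
  rw [GrothendieckTopology.mem_over_iff]
  let 𝒰 : T.left.OpenCover := T.left.openCoverOfIsOpenCover (fun i : T.left.affineOpens => i.1)
    (iSup_affineOpens_eq_top _)
  refine GrothendieckTopology.superset_covering _ ?_ 𝒰.mem_grothendieckTopology
  rintro V h ⟨W, a, _, ⟨i⟩, rfl⟩
  rw [Sieve.overEquiv_iff]
  exact ⟨_, (Over.homMk a (by
    show a ≫ i.1.ι ≫ T.hom = (a ≫ i.1.ι) ≫ T.hom
    rw [Category.assoc]) : Over.mk ((a ≫ i.1.ι) ≫ T.hom) ⟶ Over.mk (i.1.ι ≫ T.hom)), _, ⟨i⟩, Over.OverMorphism.ext rfl⟩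

variable {M : Type} [AddCommGroup M] {X U : Over S}
  {aX : MonAct (AMonS S M) X} {aU : MonAct (AMonS S M) U} {f : U ⟶ X}

theorem isPullback_attrFace [AddGroup.FG M] [IsAffineHom U.hom] [Etale f.left] (hf : MonAct.IsEquivariant aU aX f)
    {N F : AddSubmonoid M} (hF : IsFace N F) (h : N.FG ∨ (IsSeparated X.hom ∧ LocallyOfFinitePresentation X.hom)) :
    IsPullback (MonAct.eqvHom.postcomp (subAct S M N) f hf) (attrFace aU hF) (attrFace aX hF)
      (MonAct.eqvHom.postcomp (subAct S M F) f hf) := by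
  have hw : MonAct.eqvHom.postcomp (subAct S M N) f hf ≫ attrFace aX hF =
      attrFace aU hF ≫ MonAct.eqvHom.postcomp (subAct S M F) f hf := by
    ext T φ
    exact Subtype.ext (Category.assoc _ _ _).symm
  -- restriction commutes with everything
  have hres : ∀ {T T' : Over S} (g : T' ⟶ T) (φX : (attr aX N).obj (op T)) (φQ : (attr aU F).obj (op T))
      (ψ : (attr aU N).obj (op T)), IsLift aX aU f hF φX φQ ψ →
      IsLift aX aU f hF ((attr aX N).map g.op φX) ((attr aU F).map g.op φQ) ((attr aU N).map g.op ψ) := by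
    intro T T' g φX φQ ψ ⟨e1, e2⟩
    refine ⟨?_, ?_⟩
    · show (AMonS.faceMap S hF ▷ T') ≫ (AMonS S N ◁ g) ≫ ψ.1 = (AMonS S F ◁ g) ≫ φQ.1
      rw [← e1, ← whisker_exchange_assoc]
    · show ((AMonS S N ◁ g) ≫ ψ.1) ≫ f = (AMonS S N ◁ g) ≫ φX.1
      rw [Category.assoc, e2]
  have haff : ∀ (T : Over S) [IsAffine T.left] (φX : (attr aX N).obj (op T)) (φQ : (attr aU F).obj (op T)),
      (AMonS.faceMap S hF ▷ T) ≫ φX.1 = φQ.1 ≫ f → ∃! ψ, IsLift aX aU f hF φX φQ ψ := by
    intro T _ φX φQ hφ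
    rcases h with hN | ⟨hsep, hlfp⟩
    · obtain ⟨ψ, hψ⟩ := exists_lift_fg hf hN hF T φX φQ hφ
      exact ⟨ψ, hψ, fun ψ' hψ' => eq_of_lifts_fg (f := f) hN hF T ψ' ψ (hψ'.1.trans hψ.1.symm) (hψ'.2.trans hψ.2.symm)⟩
    · haveI := hsep
      haveI := hlfp
      obtain ⟨ψ, hψ⟩ := exists_lift_sep hf hF T φX φQ hφ
      exact ⟨ψ, hψ, fun ψ' hψ' => eq_of_lifts_sep hf hF T ψ' ψ (hψ'.1.trans hψ.1.symm) (hψ'.2.trans hψ.2.symm)⟩
  have hsh : ∀ T : Over S, _ := isSheafFor_affineOpens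
    (MagnetAttr.isSheaf_eqvHom (Scheme.zariskiTopology.over S) (subAct S M N) aU)
  let V : ∀ T : Over S, T.left.affineOpens → Over S := fun T i => Over.mk (i.1.ι ≫ T.hom)
  let j : ∀ (T : Over S) (i : T.left.affineOpens), V T i ⟶ T := fun T i => Over.homMk i.1.ι rfl
  have hVaff : ∀ (T : Over S) (i : T.left.affineOpens), IsAffine (V T i).left := fun T i => i.2
  have hcompat : ∀ {T T' : Over S} (g : T' ⟶ T) (φX : (attr aX N).obj (op T)) (φQ : (attr aU F).obj (op T)),
      (AMonS.faceMap S hF ▷ T) ≫ φX.1 = φQ.1 ≫ f →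
      (AMonS.faceMap S hF ▷ T') ≫ ((attr aX N).map g.op φX).1 = ((attr aU F).map g.op φQ).1 ≫ f := by
    intro T T' g φX φQ hφ
    show (AMonS.faceMap S hF ▷ T') ≫ (AMonS S N ◁ g) ≫ φX.1 = ((AMonS S F ◁ g) ≫ φQ.1) ≫ f
    rw [← whisker_exchange_assoc, hφ, Category.assoc]
  have huniq : ∀ (T : Over S) (φX : (attr aX N).obj (op T)) (φQ : (attr aU F).obj (op T))
      (ψ ψ' : (attr aU N).obj (op T)), IsLift aX aU f hF φX φQ ψ → IsLift aX aU f hF φX φQ ψ' → ψ = ψ' := by
    intro T φX φQ ψ ψ' hψ hψ'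
    refine (hsh T).isSeparatedFor.ext ?_
    rintro _ _ ⟨i⟩
    haveI := hVaff T i
    have hφ : (AMonS.faceMap S hF ▷ T) ≫ φX.1 = φQ.1 ≫ f := by rw [← hψ.1, Category.assoc, hψ.2]
    exact (haff (V T i) _ _ (hcompat (j T i) _ _ hφ)).unique (hres (j T i) _ _ _ hψ) (hres (j T i) _ _ _ hψ')
  have hex : ∀ (T : Over S) (φX : (attr aX N).obj (op T)) (φQ : (attr aU F).obj (op T)),
      (AMonS.faceMap S hF ▷ T) ≫ φX.1 = φQ.1 ≫ f → ∃ ψ, IsLift aX aU f hF φX φQ ψ := by
    intro T φX φQ hφ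
    choose ψi hψi using fun i : T.left.affineOpens =>
      haveI := hVaff T i
      (haff (V T i) _ _ (hcompat (j T i) _ _ hφ)).exists
    have hc : Presieve.Arrows.Compatible (attr aU N) (j T) ψi := by
      intro i k W a b hab
      refine huniq W ((attr aX N).map (a ≫ j T i).op φX) ((attr aU F).map (a ≫ j T i).op φQ) _ _ ?_ ?_
      · simpa only [op_comp, Functor.map_comp_apply] using hres a _ _ _ (hψi i)
      · rw [hab]
        simpa only [op_comp, Functor.map_comp_apply] using hres b _ _ _ (hψi k)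
    obtain ⟨ψ, hψ, -⟩ := (Presieve.isSheafFor_arrows_iff _ _).1 (hsh T) ψi hc
    refine ⟨ψ, ?_, ?_⟩
    · have hs := isSheafFor_affineOpens
        (MagnetAttr.isSheaf_eqvHom (Scheme.zariskiTopology.over S) (subAct S M F) aU) T
      refine congrArg Subtype.val (hs.isSeparatedFor.ext (t₁ := (attrFace aU hF).app (op T) ψ) (t₂ := φQ) ?_)
      rintro _ _ ⟨i⟩
      refine Subtype.ext ?_
      have e : (AMonS S N ◁ j T i) ≫ ψ.1 = (ψi i).1 := congrArg Subtype.val (hψ i)
      show (AMonS S F ◁ j T i) ≫ (AMonS.faceMap S hF ▷ T) ≫ ψ.1 = (AMonS S F ◁ j T i) ≫ φQ.1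
      rw [whisker_exchange_assoc, e]
      exact (hψi i).1
    · have hs := isSheafFor_affineOpens
        (MagnetAttr.isSheaf_eqvHom (Scheme.zariskiTopology.over S) (subAct S M N) aX) T
      refine congrArg Subtype.val (hs.isSeparatedFor.ext
        (t₁ := (MonAct.eqvHom.postcomp (subAct S M N) f hf).app (op T) ψ) (t₂ := φX) ?_)
      rintro _ _ ⟨i⟩
      refine Subtype.ext ?_
      have e : (AMonS S N ◁ j T i) ≫ ψ.1 = (ψi i).1 := congrArg Subtype.val (hψ i)
      show (AMonS S N ◁ j T i) ≫ ψ.1 ≫ f = (AMonS S N ◁ j T i) ≫ φX.1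
      rw [reassoc_of% e]
      exact (hψi i).2
  refine IsPullback.of_isLimit' ⟨hw⟩ (Limits.evaluationJointlyReflectsLimits _ fun T =>
    (Limits.isLimitMapConePullbackConeEquiv ((evaluation _ _).obj T) hw).symm ?_)
  refine IsPullback.isLimit (h := ?_)
  rw [Limits.Types.isPullback_iff]
  refine ⟨congrArg (fun t => NatTrans.app t T) hw, ?_, ?_⟩
  · rintro ψ ψ' ⟨h1, h2⟩
    exact huniq (unop T) ((MonAct.eqvHom.postcomp (subAct S M N) f hf).app T ψ) ((attrFace aU hF).app T ψ) ψ ψ'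
      ⟨rfl, rfl⟩ ⟨(congrArg Subtype.val h2).symm, (congrArg Subtype.val h1).symm⟩
  · intro φX φQ hφ
    obtain ⟨ψ, h1, h2⟩ := hex (unop T) φX φQ (congrArg Subtype.val hφ)
    exact ⟨ψ, Subtype.ext h2, Subtype.ext h1⟩

end Groth.Agent.MagnetEtale
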