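import Groth.Agent.MagnetEtale.Small
import Groth.Prelude.Def_Magnet4
import Mathlib

/-!
# Formal lifts along a face algebraise
-/

set_option autoImplicit false
set_option backward.isDefEq.respectTransparency false
set_option backward.isDefEq.respectTransparency.types false
set_option linter.style.haveILetI false
set_option linter.unusedSimpArgs false
set_option maxHeartbeats 1000000
set_option synthInstance.maxHeartbeats 100000

universe u

open CategoryTheory CategoryTheory.Limits MonoidalCategory CartesianMonoidalCategory MonObj AlgebraicGeometry Opposite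
open Magnet

namespace Groth.Agent.MagnetEtale

open Groth.Agent.MagnetPts (co co_comp co_ext co_map co_faceMap_of_mem co_faceMap_of_notMem co_mul)

variable {S : Scheme.{u}}

theorem isAffine_tensor (P : Type) [AddCommMonoid P] (T : Over S) [IsAffine T.left] :
    IsAffine (AMonS S P ⊗ T).left := by
  haveI : IsAffine (AMon MagnetPts.Zu.{u} P).left := inferInstanceAs (IsAffine (Spec _))
  haveI : IsAffineHom (AMon MagnetPts.Zu.{u} P).hom := isAffineHom_of_isAffine _
  haveI : IsAffineHom (AMonS S P).hom := MorphismProperty.pullback_snd _ _ inferInstance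
  haveI : IsAffineHom (snd (AMonS S P) T).left := MorphismProperty.pullback_snd _ _ inferInstance
  exact isAffine_of_isAffineHom (snd (AMonS S P) T).left

theorem cst_natural (P : Type) [AddCommMonoid P] {T T' : Over S} (v : T' ⟶ T) (r : Γ(T.left, ⊤)) :
    (AMonS S P ◁ v).left.appTop (cst P T r) = cst P T' (v.left.appTop r) := by
  show ((snd (AMonS S P) T).left.appTop ≫ (AMonS S P ◁ v).left.appTop) r =
    (v.left.appTop ≫ (snd (AMonS S P) T').left.appTop) r
  rw [← Scheme.Hom.comp_appTop, ← Scheme.Hom.comp_appTop, ← Over.comp_left, ← Over.comp_left, whiskerLeft_snd]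

theorem E_natural (P : Type) [AddCommMonoid P] {T T' : Over S} (v : T' ⟶ T) (m : Multiplicative P) :
    (AMonS S P ◁ v).left.appTop (E T m) = E T' m := by
  rw [E, ← co_comp, whiskerLeft_fst]

theorem coord_natural (P : Type) [AddCommMonoid P] {T T' : Over S} [IsAffine T.left] [IsAffine T'.left]
    (v : T' ⟶ T) (x : Γ((AMonS S P ⊗ T).left, ⊤)) (m : Multiplicative P) :
    coord T' ((AMonS S P ◁ v).left.appTop x) m = v.left.appTop (coord T x m) := by
  classical
  conv_lhs => rw [eq_sum x, map_sum]
  simp only [map_mul, cst_natural, E_natural]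
  rw [coord_sum_mul, Finsupp.finsetSum_apply, Finset.sum_eq_single m]
  · rw [Finsupp.single_eq_same]
  · intro k _ hk
    rw [Finsupp.single_apply, if_neg hk]
  · intro hm
    rw [Finsupp.single_eq_same, Finsupp.notMem_support_iff.1 hm, map_zero]

variable {M : Type} [AddCommMonoid M] {N F : AddSubmonoid M}

/-- Families agreeing on all neighbourhoods of the face agree, for separated targets. -/
theorem eq_of_forall_small (lam : N →+ ℕ) (T : Over S) [IsAffine T.left] {X : Over S} [IsSeparated X.hom]
    (w w' : AMonS S N ⊗ T ⟶ X)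
    (h : ∀ (n : ℕ) (W : Over S) (b : W ⟶ AMonS S N) (t : W ⟶ T), Small lam n b → lift b t ≫ w = lift b t ≫ w') :
    w = w' := by
  let A := AMonS S N ⊗ T
  haveI : IsAffine A.left := isAffine_tensor N T
  let p : A.left ⟶ pullback X.hom X.hom := pullback.lift w.left w'.left (by rw [Over.w w, Over.w w'])
  let e := pullback.fst p (pullback.diagonal X.hom)
  haveI : IsClosedImmersion e := MorphismProperty.pullback_fst _ _ inferInstance
  haveI : IsIso e := by
    refine IsClosedImmersion.isIso_of_injective_of_isAffine ((injective_iff_map_eq_zero e.appTop.hom).2 fun x hx => ?_)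
    apply (coord T).injective
    rw [map_zero]
    refine Finsupp.ext fun m => ?_
    obtain ⟨Y, y, -, -, hsm, hker, -, -⟩ := exists_smallObj lam (lam m.toAdd + 1) T
    have hy := h _ Y (y ≫ fst _ _) (y ≫ snd _ _) hsm
    rw [lift_comp_fst_snd] at hy
    let l : Y.left ⟶ pullback p (pullback.diagonal X.hom) := pullback.lift y.left (y ≫ w).left (by
      apply pullback.hom_ext
      · simp [p, pullback.diagonal]
      · simp [p, pullback.diagonal, ← Over.comp_left, hy])
    have hle : l ≫ e = y.left := pullback.lift_fst _ _ _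
    have hyx : y.left.appTop x = 0 := by
      rw [← hle, Scheme.Hom.comp_appTop, CommRingCat.comp_apply, hx, map_zero]
    exact (hker x).1 hyx m.toAdd (Nat.lt_succ_self _)
  refine Over.OverMorphism.ext ((cancel_epi e).1 ?_)
  have hc := pullback.condition (f := p) (g := pullback.diagonal X.hom)
  have h1 := congrArg (fun q => q ≫ pullback.fst X.hom X.hom) hc
  have h2 := congrArg (fun q => q ≫ pullback.snd X.hom X.hom) hc
  simp only [p, pullback.diagonal, Category.assoc, pullback.lift_fst, pullback.lift_snd, Category.comp_id] at h1 h2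
  exact h1.trans h2.symm

variable {X U : Over S} (f : U ⟶ X)

/-- The formal lift at a small point. -/
structure IsFormal (lam : N →+ ℕ) (hF : IsFace N F) {T : Over S} (φX : AMonS S N ⊗ T ⟶ X)
    (φQ : AMonS S F ⊗ T ⟶ U) {W : Over S} (b : W ⟶ AMonS S N) (t : W ⟶ T) (z : W ⟶ U) : Prop where
  post : z ≫ f = lift b t ≫ φX
  face : ∀ (V : Over S) (v : V ⟶ W), Small lam 1 (v ≫ b) →
    v ≫ z = lift (v ≫ b ≫ AMonS.map S (AddSubmonoid.inclusion hF.le)) (v ≫ t) ≫ φQ

variable {f}

theorem IsFormal.comp {lam : N →+ ℕ} {hF : IsFace N F} {T : Over S} {φX : AMonS S N ⊗ T ⟶ X}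
    {φQ : AMonS S F ⊗ T ⟶ U} {W : Over S} {b : W ⟶ AMonS S N} {t : W ⟶ T} {z : W ⟶ U}
    (h : IsFormal f lam hF φX φQ b t z) {W' : Over S} (v : W' ⟶ W) :
    IsFormal f lam hF φX φQ (v ≫ b) (v ≫ t) (v ≫ z) where
  post := by rw [Category.assoc, h.post, comp_lift_assoc]
  face V q hq := by
    have := h.face V (q ≫ v) (by rwa [Category.assoc])
    simpa only [Category.assoc] using this

theorem IsFormal.unique [Etale f.left] {lam : N →+ ℕ} {hF : IsFace N F} {T : Over S} [IsAffine T.left]
    {φX : AMonS S N ⊗ T ⟶ X} {φQ : AMonS S F ⊗ T ⟶ U} {W : Over S} {b : W ⟶ AMonS S N} {t : W ⟶ T} {z z' : W ⟶ U}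
    (h : IsFormal f lam hF φX φQ b t z) (h' : IsFormal f lam hF φX φQ b t z') {n : ℕ} (hb : Small lam n b) : z = z' :=
  eq_of_small f lam T b t hb z z' (h.post.trans h'.post.symm) fun V v hv => (h.face V v hv).trans (h'.face V v hv).symm

section Group

variable {M : Type} [AddCommGroup M] {N F : AddSubmonoid M} (aX : MonAct (AMonS S M) X) (aU : MonAct (AMonS S M) U)

/-- Algebraisation of the formal lift. -/
theorem exists_lift [IsAffineHom U.hom] [Etale f.left] (hf : MonAct.IsEquivariant aU aX f)
    {lam : N →+ ℕ} (hF : IsFace N F) (hlam : ∀ m : N, lam m = 0 ↔ (m : M) ∈ F) (T : Over S) [IsAffine T.left]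
    (φX : (attr aX N).obj (op T)) (φQ : (attr aU F).obj (op T))
    (hφ : (AMonS.faceMap S hF ▷ T) ≫ φX.1 = φQ.1 ≫ f) :
    ∃ ψ : (attr aU N).obj (op T), (AMonS.faceMap S hF ▷ T) ≫ ψ.1 = φQ.1 ∧
      ∀ (n : ℕ) (W : Over S) (b : W ⟶ AMonS S N) (t : W ⟶ T), Small lam n b →
        lift b t ≫ ψ.1 ≫ f = lift b t ≫ φX.1 := by
  classical
  let G := AMonS S M
  let A := AMonS S N ⊗ T
  haveI : IsAffine A.left := isAffine_tensor N T
  haveI : IsAffineHom (pullback.snd U.hom T.hom) := MorphismProperty.pullback_snd _ _ inferInstance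
  let UT := U ⊗ T
  haveI : IsAffine UT.left := isAffine_of_isAffineHom (pullback.snd U.hom T.hom)
  -- values
  have hval : ∀ (W : Over S) (b : W ⟶ AMonS S N) (t : W ⟶ T) (n : ℕ), Small lam n b →
      ∃ z, IsFormal f lam hF φX.1 φQ.1 b t z := fun W b t n hb => by
    obtain ⟨z, h1, h2⟩ := exists_formal f hF hlam φX.1 φQ.1 hφ b t hb
    exact ⟨z, h1, h2⟩
  let act2 {W : Over S} (g : W ⟶ G) (b : W ⟶ AMonS S N) : W ⟶ AMonS S N := lift g b ≫ (subAct S M N).act
  have hact2 : ∀ {W : Over S} (g : W ⟶ G) (b : W ⟶ AMonS S N), act2 g b = (g ≫ AMonS.map S N.subtype) * b := by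
    intro W g b
    simp only [act2, subAct, MonAct.lift_restrict_act, MonAct.lift_regular_act]
  -- equivariance of the values
  have heqv : ∀ (W : Over S) (g : W ⟶ G) (b : W ⟶ AMonS S N) (t : W ⟶ T) (z : W ⟶ U),
      IsFormal f lam hF φX.1 φQ.1 b t z → IsFormal f lam hF φX.1 φQ.1 (act2 g b) t (lift g z ≫ aU.act) := by
    intro W g b t z hz
    refine ⟨?_, fun V v hv => ?_⟩
    · rw [Category.assoc, (MonAct.isEquivariant_iff _ _ _).1 hf, hz.post]
      exact ((MonAct.mem_eqvHom_iff φX.1).1 φX.2 W g b t).symm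
    · have hv' : Small lam 1 (v ≫ b) := by
        intro m hm
        have h := hv m hm
        rw [hact2, MonObj.comp_mul, co_mul, ← Category.assoc, co_map] at h
        refine (IsUnit.mul_right_eq_zero (b := co (v ≫ b) (Multiplicative.ofAdd m)) ?_).1 h
        refine IsUnit.of_mul_eq_one (co (v ≫ g) (Multiplicative.ofAdd (-(m : M)))) ?_
        rw [← map_mul, ← ofAdd_add]
        show co (v ≫ g) (Multiplicative.ofAdd ((m : M) + -(m : M))) = 1
        rw [add_neg_cancel, ofAdd_zero, map_one]
      rw [← Category.assoc, comp_lift, Category.assoc, hz.face V v hv', ← (MonAct.mem_eqvHom_iff φQ.1).1 φQ.2]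
      refine congrArg (fun q => lift q (v ≫ t) ≫ φQ.1) ?_
      simp only [subAct, MonAct.lift_restrict_act, MonAct.lift_regular_act, MonAct.lift_restrict_act_assoc, MonAct.lift_regular_act_assoc]
      simp only [MonObj.comp_mul, MonObj.mul_comp, Category.assoc, ← AMonS.map_comp]
      rfl
  -- the coaction
  let actU : G ⊗ UT ⟶ UT := lift (lift (fst _ _) (snd _ _ ≫ fst U T) ≫ aU.act) (snd _ _ ≫ snd U T)
  let cU (c : Γ(UT.left, ⊤)) := coord UT (actU.left.appTop c)
  choose Y y hYaff hyci hsm hker hsurj huniv using fun n => exists_smallObj (S := S) lam n T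
  choose zY hzY using fun n => hval (Y n) (y n ≫ fst _ _) (y n ≫ snd _ _) n (hsm n)
  let gt (n : ℕ) : Y n ⟶ UT := lift (zY n) (y n ≫ snd _ _)
  choose x hx using fun (n : ℕ) (c : Γ(UT.left, ⊤)) => hsurj n ((gt n).left.appTop c)
  have hcompat : ∀ n n', n ≤ n' → ∀ c (m : N), lam m < n →
      coord T (x n c) (Multiplicative.ofAdd m) = coord T (x n' c) (Multiplicative.ofAdd m) := by
    intro n n' hn c m hm
    obtain ⟨z, hz⟩ := huniv n' (Y n) (y n ≫ fst _ _) (y n ≫ snd _ _) ((hsm n).mono hn)
    rw [lift_comp_fst_snd] at hz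
    have hzz : zY n = z ≫ zY n' := by
      refine (hzY n).unique ?_ (hsm n)
      have := (hzY n').comp z
      rwa [reassoc_of% hz, reassoc_of% hz] at this
    have hgt : gt n = z ≫ gt n' := by simp only [gt, comp_lift, hzz, reassoc_of% hz]
    have h0 : (y n).left.appTop (x n c - x n' c) = 0 := by
      rw [map_sub, hx, hgt, ← hz, Over.comp_left, Over.comp_left, Scheme.Hom.comp_appTop, Scheme.Hom.comp_appTop,
        CommRingCat.comp_apply, CommRingCat.comp_apply, hx, sub_self]
    have := (hker n _).1 h0 m hm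
    rwa [map_sub, Finsupp.sub_apply, sub_eq_zero] at this
  have hsupp : ∀ n c (m : N), lam m < n → coord T (x n c) (Multiplicative.ofAdd m) ≠ 0 →
      Multiplicative.ofAdd (m : M) ∈ (cU c).support := by
    intro n c m hm hne
    by_contra hout
    haveI := hYaff n
    obtain ⟨ν, hν⟩ := huniv n (G ⊗ Y n) (act2 (fst _ _) (snd _ _ ≫ y n ≫ fst _ _)) (snd _ _ ≫ y n ≫ snd _ _)
      (by rw [hact2]; exact ((hsm n).comp (snd G (Y n))).mul_left _)
    have hz1 := heqv _ (fst G (Y n)) _ _ _ ((hzY n).comp (snd G (Y n)))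
    have hz2 := (hzY n).comp ν
    rw [reassoc_of% hν, reassoc_of% hν, lift_fst, lift_snd] at hz2
    have hzeq := hz1.unique hz2 (n := n) (by rw [hact2]; exact ((hsm n).comp (snd G (Y n))).mul_left _)
    have hsq : (G ◁ gt n) ≫ actU = ν ≫ gt n := by
      simp only [gt, actU, comp_lift, comp_lift_assoc, whiskerLeft_fst, whiskerLeft_snd_assoc, lift_fst, lift_snd]
      rw [hzeq, reassoc_of% hν, lift_snd]
    have h1 : coord (Y n) ((ν ≫ gt n).left.appTop c) (Multiplicative.ofAdd (m : M)) = 0 := by
      rw [← hsq, Over.comp_left, Scheme.Hom.comp_appTop, CommRingCat.comp_apply, coord_natural,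
        Finsupp.notMem_support_iff.1 hout, map_zero]
    have h2 : (ν ≫ gt n).left.appTop c = ∑ k ∈ (coord T (x n c)).support,
        cst M (Y n) ((y n).left.appTop (cst N T (coord T (x n c) k) * E T k)) *
          E (Y n) (Multiplicative.ofAdd (k.toAdd : M)) := by
      rw [Over.comp_left, Scheme.Hom.comp_appTop, CommRingCat.comp_apply, ← hx]
      conv_lhs => rw [eq_sum (x n c), map_sum, map_sum]
      refine Finset.sum_congr rfl fun k _ => ?_
      have hs : ν ≫ y n ≫ snd _ _ = snd _ _ ≫ y n ≫ snd _ _ := by rw [reassoc_of% hν, lift_snd]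
      have hb : ν ≫ y n ≫ fst _ _ = act2 (fst G (Y n)) (snd _ _ ≫ y n ≫ fst _ _) := by rw [reassoc_of% hν, lift_fst]
      have e1 : ν.left.appTop ((y n).left.appTop (cst N T (coord T (x n c) k))) =
          cst M (Y n) ((y n).left.appTop (cst N T (coord T (x n c) k))) := by
        show ((snd _ T).left.appTop ≫ (y n).left.appTop ≫ ν.left.appTop) _ =
          ((snd _ T).left.appTop ≫ (y n).left.appTop ≫ (snd G (Y n)).left.appTop) _
        simp only [← Scheme.Hom.comp_appTop, ← Over.comp_left, Category.assoc, hs]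
      have e2 : ν.left.appTop ((y n).left.appTop (E T k)) =
          E (Y n) (Multiplicative.ofAdd (k.toAdd : M)) * cst M (Y n) ((y n).left.appTop (E T k)) := by
        rw [E, ← co_comp, ← co_comp, hb, hact2, co_mul, co_map, co_comp (snd G (Y n))]
        rfl
      rw [map_mul, map_mul, e1, e2, map_mul (cst M (Y n))]
      ring
    rw [h2, coord_sum_mul, Finsupp.finsetSum_apply] at h1
    rw [Finset.sum_eq_single (Multiplicative.ofAdd m)] at h1
    · rw [show Multiplicative.ofAdd (((Multiplicative.ofAdd m).toAdd : N) : M) = Multiplicative.ofAdd (m : M) from rfl,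
        Finsupp.single_eq_same] at h1
      have := (hker n _).1 h1 m hm
      rw [coord_mul, Finsupp.single_eq_same] at this
      exact hne this
    · intro k _ hk
      rw [Finsupp.single_apply, if_neg]
      intro e
      exact hk (Multiplicative.toAdd.injective (Subtype.ext (Multiplicative.ofAdd.injective e)))
    · intro hk
      rw [Finsupp.notMem_support_iff.1 hk, map_zero, zero_mul, map_zero, Finsupp.single_zero, Finsupp.zero_apply]
  -- the map on functions
  have hex : ∀ c, ∃ b : Γ(A.left, ⊤), ∀ n, (y n).left.appTop b = (gt n).left.appTop c := by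
    intro c
    let K : Finset N := (cU c).support.preimage (fun k : N => Multiplicative.ofAdd (k : M))
      (fun a _ b _ h => Subtype.ext (Multiplicative.ofAdd.injective h))
    refine ⟨∑ k ∈ K, cst N T (coord T (x (lam k + 1) c) (Multiplicative.ofAdd k)) * E T (Multiplicative.ofAdd k),
      fun n => ?_⟩
    rw [← hx n c, ← sub_eq_zero, ← map_sub]
    refine (hker n _).2 fun m hm => ?_
    rw [map_sub, Finsupp.sub_apply, coord_sum_mul, Finsupp.finsetSum_apply, sub_eq_zero]
    by_cases hmK : m ∈ K
    · rw [Finset.sum_eq_single m (fun k _ hk => by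
        rw [Finsupp.single_apply, if_neg (fun e => hk (Multiplicative.ofAdd.injective e))])
        (fun h => absurd hmK h), Finsupp.single_eq_same]
      exact hcompat (lam m + 1) n hm c m (Nat.lt_succ_self _)
    · rw [Finset.sum_eq_zero (fun k hk => by
        rw [Finsupp.single_apply, if_neg]
        intro e
        exact hmK (Multiplicative.ofAdd.injective e ▸ hk))]
      by_contra hne
      exact hmK (Finset.mem_preimage.2 (hsupp n c m hm (Ne.symm hne)))
  have hun : ∀ b b' : Γ(A.left, ⊤), (∀ n, (y n).left.appTop b = (y n).left.appTop b') → b = b' := by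
    intro b b' h
    rw [← sub_eq_zero]
    apply (coord T).injective
    rw [map_zero]
    refine Finsupp.ext fun m => ?_
    exact (hker (lam m.toAdd + 1) _).1 (by rw [map_sub, h, sub_self]) m.toAdd (Nat.lt_succ_self _)
  choose bf hbf using hex
  let θ : Γ(UT.left, ⊤) →+* Γ(A.left, ⊤) :=
    { toFun := bf
      map_one' := hun _ _ fun n => by rw [hbf, map_one, map_one]
      map_mul' := fun c d => hun _ _ fun n => by rw [hbf, map_mul, map_mul, hbf, hbf]
      map_zero' := hun _ _ fun n => by rw [hbf, map_zero, map_zero]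
      map_add' := fun c d => hun _ _ fun n => by rw [hbf, map_add, map_add, hbf, hbf] }
  let u₀ : A.left ⟶ UT.left := A.left.isoSpec.hom ≫ Spec.map (CommRingCat.ofHom θ) ≫ UT.left.isoSpec.inv
  have hu₀ : u₀.appTop = CommRingCat.ofHom θ := by
    apply Spec.map_injective
    rw [← cancel_mono UT.left.isoSpec.inv, Scheme.isoSpec_inv_naturality]
    simp [u₀]
  have hu₀y : ∀ n, (y n).left ≫ u₀ = (gt n).left := fun n => by
    refine ext_of_isAffine ?_
    rw [Scheme.Hom.comp_appTop, hu₀]
    exact CommRingCat.hom_ext (RingHom.ext fun c => hbf c n)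
  have hu₀T : u₀ ≫ (snd U T).left = (snd (AMonS S N) T).left := by
    refine ext_of_isAffine (CommRingCat.hom_ext (RingHom.ext fun r => hun _ _ fun n => ?_))
    show ((u₀ ≫ (snd U T).left).appTop ≫ (y n).left.appTop) r = ((snd _ T).left.appTop ≫ (y n).left.appTop) r
    rw [← Scheme.Hom.comp_appTop, ← Scheme.Hom.comp_appTop, reassoc_of% (hu₀y n), ← Over.comp_left, ← Over.comp_left]
    simp [gt]
  let u' : A ⟶ UT := Over.homMk u₀ (by
    rw [← Over.w (snd U T), reassoc_of% hu₀T, Over.w (snd (AMonS S N) T)])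
  let u : A ⟶ U := u' ≫ fst U T
  have huY : ∀ n, y n ≫ u = zY n := fun n => by
    have : y n ≫ u' = gt n := Over.OverMorphism.ext (hu₀y n)
    simp only [u, reassoc_of% this, gt, lift_fst]
  have hus : ∀ (n : ℕ) (W : Over S) (b : W ⟶ AMonS S N) (t : W ⟶ T), Small lam n b →
      IsFormal f lam hF φX.1 φQ.1 b t (lift b t ≫ u) := by
    intro n W b t hb
    obtain ⟨z, hz⟩ := huniv n W b t hb
    have := (hzY n).comp z
    rw [reassoc_of% hz, reassoc_of% hz, lift_fst, lift_snd, ← huY, ← Category.assoc, hz] at this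
    exact this
  have heq : MonAct.IsEquivariant ((subAct S M N).prod (MonAct.trivial G T)) aU u := by
    haveI : IsAffine (G ⊗ T).left := isAffine_tensor M T
    rw [MonAct.mem_eqvHom_iff]
    intro W gg b t
    have huniv' : lift (lift (snd (AMonS S N) (G ⊗ T) ≫ fst _ _) (fst _ _) ≫ (subAct S M N).act)
        (snd (AMonS S N) (G ⊗ T) ≫ snd _ _) ≫ u =
        lift (snd (AMonS S N) (G ⊗ T) ≫ fst _ _) (lift (fst _ _) (snd (AMonS S N) (G ⊗ T) ≫ snd _ _) ≫ u) ≫ aU.act := by
      haveI : IsSeparated U.hom := inferInstance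
      refine eq_of_forall_small lam (G ⊗ T) _ _ fun n V b' t' hb' => ?_
      simp only [comp_lift_assoc, comp_lift, lift_fst, lift_snd_assoc, Category.assoc]
      exact ((hus n V _ _ (by rw [show lift (t' ≫ fst G T) b' ≫ (subAct S M N).act = act2 (t' ≫ fst G T) b' from rfl, hact2]; exact hb'.mul_left _)).unique
        (heqv V (t' ≫ fst G T) b' (t' ≫ snd G T) _ (hus n V b' (t' ≫ snd G T) hb'))
        (n := n) (by rw [show lift (t' ≫ fst G T) b' ≫ (subAct S M N).act = act2 (t' ≫ fst G T) b' from rfl, hact2]; exact hb'.mul_left _))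
    have := congrArg (fun s => lift b (lift gg t) ≫ s) huniv'
    simp only [comp_lift_assoc, comp_lift, ← Category.assoc, lift_fst, lift_snd] at this
    erw [lift_fst, lift_snd] at this
    exact this
  refine ⟨⟨u, heq⟩, ?_, fun n W b t hb => (Category.assoc _ _ _).symm.trans (hus n W b t hb).post⟩
  refine Magnet.hom_ext_lift₂ fun W b t => ?_
  rw [lift_whiskerRight_assoc]
  have h := (hus 1 W _ t (small_one_faceMap hF hlam b)).face W (𝟙 W) (by
    rw [Category.id_comp]; exact small_one_faceMap hF hlam b)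
  simp only [Category.id_comp] at h
  refine h.trans (congrArg (fun q => lift q t ≫ φQ.1) ?_)
  refine co_ext fun k => ?_
  rw [co_map, co_faceMap_of_mem hF b (AddSubmonoid.inclusion hF.le k.toAdd) k.toAdd.2]
  rfl

end Group

end Groth.Agent.MagnetEtale
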