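import Groth.Agent.MagnetEtale.Lift
import Groth.Agent.MagnetAttr.OpenAlg
import Mathlib

/-!
# Equivariant families agreeing near a face agree
-/

set_option autoImplicit false
set_option backward.isDefEq.respectTransparency false
set_option backward.isDefEq.respectTransparency.types false
set_option linter.style.haveILetI false
set_option linter.unusedSimpArgs false
set_option maxHeartbeats 1000000
set_option synthInstance.maxHeartbeats 100000

universe u

open CategoryTheory CategoryTheory.Limits MonoidalCategory CartesianMonoidalCategory MonObj AlgebraicGeometry Opposite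
open Magnet

namespace Groth.Agent.MagnetEtale

open Groth.Agent.MagnetPts (co co_comp co_ext co_map co_mul exists_co)

variable {S : Scheme.{u}} {M : Type} [AddCommMonoid M] {N : AddSubmonoid M}

/-- Two maps agreeing on all neighbourhoods of the face agree near the face. -/
theorem exists_open_agree (lam : N →+ ℕ) (T : Over S) [IsAffine T.left] {X : Over S} (w w' : AMonS S N ⊗ T ⟶ X)
    (h : ∀ (n : ℕ) (W : Over S) (b : W ⟶ AMonS S N) (t : W ⟶ T), Small lam n b → lift b t ≫ w = lift b t ≫ w') :
    ∃ O : (AMonS S N ⊗ T).left.Opens, O.ι ≫ w.left = O.ι ≫ w'.left ∧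
      ∀ (W : Over S) (b : W ⟶ AMonS S N) (t : W ⟶ T), Small lam 1 b → Set.range (lift b t).left ⊆ O := by
  classical
  let A := AMonS S N ⊗ T
  haveI : IsAffine A.left := isAffine_tensor N T
  choose Y y hYaff hyci hsm hker hsurj huniv using fun n => exists_smallObj (S := S) lam n T
  have hagree : ∀ n, y n ≫ w = y n ≫ w' := fun n => by
    have := h n (Y n) (y n ≫ fst _ _) (y n ≫ snd _ _) (hsm n)
    rwa [lift_comp_fst_snd] at this
  have hloc : ∀ p : (Y 1).left, ∃ D : A.left.Opens, (y 1).left p ∈ D ∧ D.ι ≫ w.left = D.ι ≫ w'.left := by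
    intro p
    obtain ⟨W', hW', hpW', -⟩ :=
      exists_isAffineOpen_mem_and_subset (x := (y 1).left p |> w.left) (U := (⊤ : X.left.Opens)) trivial
    have hpw' : w'.left ((y 1).left p) ∈ W' := by
      have e := congrArg (fun q : Y 1 ⟶ X => q.left p) (hagree 1)
      simp only [Over.comp_left, Scheme.Hom.comp_apply] at e
      exact e ▸ hpW'
    obtain ⟨b, hbV, hpb⟩ := (isAffineOpen_top A.left).exists_basicOpen_le (V := w.left ⁻¹ᵁ W' ⊓ w'.left ⁻¹ᵁ W')
      (x := ⟨(y 1).left p, hpW', hpw'⟩) trivial
    let b₀ : Γ(A.left, ⊤) := ∑ m ∈ (coord T b).support.filter (fun m => lam m.toAdd = 0), cst N T (coord T b m) * E T m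
    have hb₀deg : ∀ m : Multiplicative N, lam m.toAdd ≠ 0 → coord T b₀ m = 0 := by
      intro m hm
      rw [coord_sum_mul, Finsupp.finsetSum_apply, Finset.sum_eq_zero]
      intro k hk
      rw [Finsupp.single_apply, if_neg]
      rintro rfl
      exact hm (Finset.mem_filter.1 hk).2
    have hb₀ : (y 1).left.appTop (b - b₀) = 0 := by
      refine (hker 1 _).2 fun m hm => ?_
      rw [map_sub, Finsupp.sub_apply, coord_sum_mul, Finsupp.finsetSum_apply, sub_eq_zero]
      by_cases hms : Multiplicative.ofAdd m ∈ (coord T b).support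
      · rw [Finset.sum_eq_single (Multiplicative.ofAdd m), Finsupp.single_eq_same]
        · intro k _ hk
          rw [Finsupp.single_apply, if_neg hk]
        · intro hk
          exact absurd (Finset.mem_filter.2 ⟨hms, Nat.lt_one_iff.1 hm⟩) hk
      · rw [Finsupp.notMem_support_iff.1 hms, Finset.sum_eq_zero]
        intro k hk
        rw [Finsupp.single_apply, if_neg]
        rintro rfl
        exact hms (Finset.mem_filter.1 hk).1
    let c := b * b₀
    have hcV : A.left.basicOpen c ≤ w.left ⁻¹ᵁ W' ⊓ w'.left ⁻¹ᵁ W' :=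
      le_trans (by rw [Scheme.basicOpen_mul]; exact inf_le_left) hbV
    refine ⟨A.left.basicOpen c, ?_, ?_⟩
    · rw [Scheme.basicOpen_mul]
      refine ⟨hpb, ?_⟩
      show p ∈ (y 1).left ⁻¹ᵁ A.left.basicOpen b₀
      rw [Scheme.preimage_basicOpen_top]
      rw [map_sub, sub_eq_zero] at hb₀
      rw [← hb₀, ← Scheme.preimage_basicOpen_top]
      exact hpb
    have e1 : A.left.basicOpen c ≤ w.left ⁻¹ᵁ W' := hcV.trans inf_le_left
    have e2 : A.left.basicOpen c ≤ w'.left ⁻¹ᵁ W' := hcV.trans inf_le_right
    suffices hmain : ∀ s : Γ(X.left, W'), w.left.appLE W' _ e1 s = w'.left.appLE W' _ e2 s by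
      have hres : w.left.resLE W' _ e1 = w'.left.resLE W' _ e2 := by
        haveI : IsAffine W'.toScheme := hW'
        refine ext_of_isAffine ?_
        show (w.left.resLE W' _ e1).app ⊤ = (w'.left.resLE W' _ e2).app ⊤
        rw [Scheme.Hom.resLE_app_top, Scheme.Hom.resLE_app_top,
          (CommRingCat.hom_ext (RingHom.ext hmain) : w.left.appLE W' _ e1 = w'.left.appLE W' _ e2)]
      rw [← Scheme.Hom.resLE_comp_ι w.left e1, ← Scheme.Hom.resLE_comp_ι w'.left e2, hres]
    intro s
    haveI := (isAffineOpen_top A.left).isLocalization_basicOpen c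
    rw [← sub_eq_zero]
    obtain ⟨⟨x, ⟨_, k, rfl⟩⟩, hx⟩ := IsLocalization.surj (Submonoid.powers c)
      (w.left.appLE W' _ e1 s - w'.left.appLE W' _ e2 s)
    suffices hz : ∃ L : ℕ, c ^ L * x = 0 by
      obtain ⟨L, hL⟩ := hz
      have hu : IsUnit (algebraMap Γ(A.left, ⊤) Γ(A.left, A.left.basicOpen c) (c ^ k)) :=
        IsLocalization.map_units _ (⟨c ^ k, k, rfl⟩ : Submonoid.powers c)
      refine (IsUnit.mul_left_eq_zero hu).1 (hx.trans ?_)
      exact (IsLocalization.map_eq_zero_iff (Submonoid.powers c) _ x).2 ⟨⟨c ^ L, L, rfl⟩, hL⟩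
    let B₀ := (coord T x).support.sup fun m => lam m.toAdd
    let n := B₀ + 1
    -- vanishing on the neighbourhood
    have hker' : ∃ K : ℕ, (y n).left.appTop (c ^ K * x) = 0 := by
      haveI := hYaff n
      have hpre : (y n).left ⁻¹ᵁ A.left.basicOpen c = (Y n).left.basicOpen ((y n).left.appTop c) :=
        Scheme.preimage_basicOpen_top _ _
      haveI := (isAffineOpen_top (Y n).left).isLocalization_basicOpen ((y n).left.appTop c)
      have h0 : algebraMap Γ((Y n).left, ⊤) Γ((Y n).left, (Y n).left.basicOpen ((y n).left.appTop c))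
          ((y n).left.appTop x) = 0 := by
        have hd : (y n).left.appLE _ ((Y n).left.basicOpen ((y n).left.appTop c)) hpre.ge
            (w.left.appLE W' _ e1 s - w'.left.appLE W' _ e2 s) = 0 := by
          rw [map_sub, ← CommRingCat.comp_apply, ← CommRingCat.comp_apply, Scheme.Hom.appLE_comp_appLE,
            Scheme.Hom.appLE_comp_appLE, sub_eq_zero]
          congr 3
          exact congrArg CommaMorphism.left (hagree n)
        have hnat : ∀ r : Γ(A.left, ⊤), (y n).left.appLE _ ((Y n).left.basicOpen ((y n).left.appTop c)) hpre.ge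
            (algebraMap Γ(A.left, ⊤) Γ(A.left, A.left.basicOpen c) r) =
            algebraMap Γ((Y n).left, ⊤) Γ((Y n).left, (Y n).left.basicOpen ((y n).left.appTop c)) ((y n).left.appTop r) := by
          intro r
          show (A.left.presheaf.map _ ≫ (y n).left.appLE _ _ _) r = ((y n).left.appTop ≫ (Y n).left.presheaf.map _) r
          rw [Scheme.Hom.map_appLE]
          rfl
        have := congrArg ((y n).left.appLE _ ((Y n).left.basicOpen ((y n).left.appTop c)) hpre.ge) hx
        exact ((hnat x).symm.trans this.symm).trans ((map_mul _ _ _).trans (mul_eq_zero_of_left hd _))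
      obtain ⟨⟨_, K, rfl⟩, hK⟩ := (IsLocalization.map_eq_zero_iff (Submonoid.powers ((y n).left.appTop c)) _ _).1 h0
      refine ⟨K, ?_⟩
      rw [map_mul, map_pow]
      exact hK
    obtain ⟨K, hK⟩ := hker'
    -- powers of the weight zero part are divisible by `b`
    have hdiv : ∃ q, (y n).left.appTop (b₀ ^ n - b * q) = 0 := by
      have hj : (y n).left.appTop ((b₀ - b) ^ n) = 0 := by
        have hJ : b₀ - b = ∑ m ∈ (coord T (b₀ - b)).support, cst N T (coord T (b₀ - b) m) * E T m := eq_sum _
        have hpos : ∀ m ∈ (coord T (b₀ - b)).support, 1 ≤ lam m.toAdd := by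
          intro m hm
          by_contra h0
          have := (hker 1 (b - b₀)).1 hb₀ m.toAdd (not_le.1 h0)
          rw [Finsupp.mem_support_iff, ← neg_sub b b₀, map_neg, Finsupp.neg_apply, neg_ne_zero] at hm
          exact hm this
        have hgen : ∀ k : ℕ, ∀ m : N, lam m < k → coord T ((b₀ - b) ^ k) (Multiplicative.ofAdd m) = 0 := by
          intro k
          induction k with
          | zero => intro m hm; exact absurd hm (Nat.not_lt_zero _)
          | succ k ih =>
            intro m hm
            rw [pow_succ, eq_sum ((b₀ - b) ^ k), hJ, Finset.sum_mul_sum, ← Finset.sum_product']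
            have : ∀ i ∈ (coord T ((b₀ - b) ^ k)).support ×ˢ (coord T (b₀ - b)).support,
                cst N T (coord T ((b₀ - b) ^ k) i.1) * E T i.1 * (cst N T (coord T (b₀ - b) i.2) * E T i.2) =
                cst N T (coord T ((b₀ - b) ^ k) i.1 * coord T (b₀ - b) i.2) * E T (i.1 * i.2) := by
              intro i _
              rw [map_mul, ← E_mul]; ring
            rw [← hJ, Finset.sum_congr rfl this, coord_sum_mul, Finsupp.finsetSum_apply, Finset.sum_eq_zero]
            intro i hi
            rw [Finsupp.single_apply, if_neg]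
            intro e
            have h1 : k ≤ lam i.1.toAdd := by
              by_contra hlt
              exact Finsupp.mem_support_iff.1 (Finset.mem_product.1 hi).1 (ih i.1.toAdd (not_le.1 hlt))
            have h2 := hpos i.2 (Finset.mem_product.1 hi).2
            have h3 : lam i.1.toAdd + lam i.2.toAdd = lam m := by
              rw [← map_add]; exact congrArg lam (congrArg Multiplicative.toAdd e)
            omega
        exact (hker n _).2 (hgen n)
      obtain ⟨q, hq⟩ := sub_dvd_pow_sub_pow b₀ (b₀ - b) n
      refine ⟨q, ?_⟩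
      rw [show b₀ ^ n - b * q = (b₀ - b) ^ n by
        rw [sub_sub_cancel] at hq
        rw [← hq]; ring]
      exact hj
    obtain ⟨q, hq⟩ := hdiv
    have hn0 : (y n).left.appTop (b₀ ^ (n * K + K) * x) = 0 := by
      rw [map_sub, sub_eq_zero, map_pow, map_mul] at hq
      rw [map_mul, map_pow, pow_add, pow_mul, hq, mul_pow]
      rw [map_mul, map_pow, map_mul, mul_pow] at hK
      calc _ = (y n).left.appTop q ^ K *
            ((y n).left.appTop b ^ K * (y n).left.appTop b₀ ^ K * (y n).left.appTop x) := by ring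
        _ = 0 := by rw [hK, mul_zero]
    have hb0pow : ∀ (L : ℕ) (m : Multiplicative N), coord T (b₀ ^ L * x) m ≠ 0 → lam m.toAdd ≤ B₀ := by
      intro L
      induction L with
      | zero =>
        intro m hm
        rw [pow_zero, _root_.one_mul] at hm
        exact Finset.le_sup (f := fun m : Multiplicative N => lam m.toAdd) (Finsupp.mem_support_iff.2 hm)
      | succ L ih =>
        intro m hm
        rw [pow_succ, mul_comm (b₀ ^ L), _root_.mul_assoc, eq_sum (b₀ ^ L * x)] at hm
        nth_rw 1 [eq_sum b₀] at hm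
        rw [Finset.sum_mul_sum,
          ← Finset.sum_product', map_sum, Finsupp.finsetSum_apply] at hm
        obtain ⟨i, hi, hne⟩ := Finset.exists_ne_zero_of_sum_ne_zero hm
        rw [show ∀ a a' : Γ(T.left, ⊤), cst N T a * E T i.1 * (cst N T a' * E T i.2) =
            cst N T (a * a') * E T (i.1 * i.2) from fun a a' => by rw [map_mul, ← E_mul]; ring,
          coord_mul, Finsupp.single_apply] at hne
        by_cases he : i.1 * i.2 = m
        · subst he
          rw [toAdd_mul, map_add]
          have h1 : lam i.1.toAdd = 0 := by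
            by_contra h0
            exact Finsupp.mem_support_iff.1 (Finset.mem_product.1 hi).1 (hb₀deg _ h0)
          rw [h1, zero_add]
          exact ih _ (Finsupp.mem_support_iff.1 (Finset.mem_product.1 hi).2)
        · rw [if_neg he] at hne
          exact absurd rfl hne
    have hzero : b₀ ^ (n * K + K) * x = 0 := by
      apply (coord T).injective
      rw [map_zero]
      refine Finsupp.ext fun m => ?_
      by_contra hm
      exact hm ((hker n _).1 hn0 m.toAdd (Nat.lt_succ_of_le (hb0pow _ m hm)))
    refine ⟨n * K + K, ?_⟩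
    rw [show c ^ (n * K + K) * x = b ^ (n * K + K) * (b₀ ^ (n * K + K) * x) by rw [mul_pow]; ring, hzero, mul_zero]
  choose D hpD hD using hloc
  refine ⟨⨆ p, D p, ?_, fun W b t hb => ?_⟩
  · refine Scheme.Cover.hom_ext ((⨆ p, D p).toScheme.openCoverOfIsOpenCover (fun p => (⨆ q, D q).ι ⁻¹ᵁ D p)
      (eq_top_iff.2 fun q _ => by
        obtain ⟨i, hi⟩ := TopologicalSpace.Opens.mem_iSup.1 q.2
        exact TopologicalSpace.Opens.mem_iSup.2 ⟨i, hi⟩)) _ _ fun p => ?_
    show ((⨆ q, D q).ι ⁻¹ᵁ D p).ι ≫ _ = ((⨆ q, D q).ι ⁻¹ᵁ D p).ι ≫ _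
    rw [← morphismRestrict_ι_assoc, ← morphismRestrict_ι_assoc, hD p]
  · obtain ⟨z, hz⟩ := huniv 1 W b t hb
    rintro _ ⟨p, rfl⟩
    rw [← hz]
    exact TopologicalSpace.Opens.mem_iSup.2 ⟨z.left p, hpD _⟩

end Groth.Agent.MagnetEtale
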