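import Groth.Agent.MagnetAttrRep.Coeff
import Groth.Agent.MagnetPts

/-!
# The monomial basis of the functions on a diagonalizable monoid over an affine base
-/

set_option autoImplicit false
set_option backward.isDefEq.respectTransparency false
set_option backward.isDefEq.respectTransparency.types false
set_option linter.style.haveILetI false
set_option linter.unusedSimpArgs false
set_option maxHeartbeats 1000000
set_option synthInstance.maxHeartbeats 100000

universe u

open CategoryTheory CategoryTheory.Limits MonoidalCategory CartesianMonoidalCategory MonObj AlgebraicGeometry Opposite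
open Magnet

namespace Groth.Agent.MagnetEtale

open Groth.Agent.MagnetAttr Groth.Agent.MagnetAttrRep

attribute [local instance 2000] Algebra.toModule

variable {S : Scheme.{u}}

/-- The monomial functions. -/
noncomputable abbrev E {P : Type} [AddCommMonoid P] (T : Over S) (m : Multiplicative P) :
    Γ((AMonS S P ⊗ T).left, ⊤) := MagnetPts.co (fst (AMonS S P) T) m

/-- The constants. -/
noncomputable abbrev cst (P : Type) [AddCommMonoid P] (T : Over S) : Γ(T.left, ⊤) →+* Γ((AMonS S P ⊗ T).left, ⊤) :=
  (snd (AMonS S P) T).left.appTop.hom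

/-- The functions on `A(P) × T` are freely generated by the monomials over those on `T`. -/
theorem exists_basis (P : Type) [AddCommMonoid P] (T : Over S) [IsAffine T.left] :
    ∃ e : Γ((AMonS S P ⊗ T).left, ⊤) ≃+ (Multiplicative P →₀ Γ(T.left, ⊤)),
      ∀ m r, e (cst P T r * E T m) = Finsupp.single m r := by
  classical
  let aR : CommRingCat.of (ULift.{u} ℤ) ⟶ Γ(T.left, ⊤) :=
    Spec.preimage (IsTerminal.from specULiftZIsTerminal.{u} (Spec Γ(T.left, ⊤)))
  letI : Algebra MagnetAttr.Zu.{u} Γ(T.left, ⊤) := aR.hom.toAlgebra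
  let R : Type u := Γ(T.left, ⊤)
  let ε : Spec Γ(T.left, ⊤) ⟶ T.left := T.left.isoSpec.inv
  let c := chart S T R ε P
  haveI : IsIso c := (chart_isPullback S T R ε P).isIso_fst_of_isIso
  let Φ : Γ((AMonS S P ⊗ T).left, ⊤) →+* ring R P :=
    (c.appTop ≫ (Scheme.ΓSpecIso (CommRingCat.of (ring R P))).hom).hom
  have hΦ : Function.Bijective Φ :=
    (ConcreteCategory.isIso_iff_bijective (c.appTop ≫ (Scheme.ΓSpecIso (CommRingCat.of (ring R P))).hom)).1 inferInstance
  have hΦE : ∀ m, Φ (E T m) = MonoidAlgebra.single m (1 : MagnetAttr.Zu.{u}) ⊗ₜ (1 : R) := by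
    intro m
    show (Scheme.ΓSpecIso (CommRingCat.of (ring R P))).hom (c.appTop (MagnetPts.co _ m)) = _
    rw [MagnetPts.co_apply]
    have h : c ≫ (fst (AMonS S P) T).left ≫ pullback.fst _ _ = inL R P := chart_fst_fst S T R ε P
    let f' : (AMonS S P ⊗ T).left ⟶ Spec (CommRingCat.of (MonoidAlgebra MagnetAttr.Zu.{u} (Multiplicative P))) :=
      (fst (AMonS S P) T).left ≫ pullback.fst _ _
    have h' : c.appTop (MagnetPts.ρ f' (MonoidAlgebra.single m 1)) =
        MagnetPts.ρ (c ≫ f') (MonoidAlgebra.single m 1) := by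
      rw [MagnetPts.ρ, MagnetPts.ρ, Scheme.Hom.comp_appTop]
      rfl
    rw [h', show c ≫ f' = inL R P from h]
    show (Scheme.ΓSpecIso (CommRingCat.of (ring R P))).hom (((Scheme.ΓSpecIso _).inv ≫ (inL R P).appTop).hom _) = _
    rw [← Scheme.ΓSpecIso_inv_naturality, CommRingCat.comp_apply, ← CommRingCat.comp_apply, Iso.inv_hom_id]
    rfl
  have hΦc : ∀ r, Φ (cst P T r) = (1 : MonoidAlgebra MagnetAttr.Zu.{u} (Multiplicative P)) ⊗ₜ r := by
    intro r
    have h : c ≫ (snd (AMonS S P) T).left = inR R P ≫ ε := chart_snd S T R ε P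
    have h1 : (snd (AMonS S P) T).left.appTop ≫ c.appTop ≫ (Scheme.ΓSpecIso (CommRingCat.of (ring R P))).hom =
        CommRingCat.ofHom (Algebra.TensorProduct.includeRight
          (R := MagnetAttr.Zu.{u}) (A := MonoidAlgebra MagnetAttr.Zu.{u} (Multiplicative P)) (B := R)).toRingHom := by
      apply Spec.map_injective
      rw [← cancel_mono T.left.isoSpec.inv, ← Scheme.Hom.comp_appTop_assoc, h, Spec.map_comp, Category.assoc,
        Scheme.isoSpec_inv_naturality, Scheme.isoSpec_Spec_inv, ← Spec.map_comp_assoc, Iso.inv_hom_id,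
        Spec.map_id, Category.id_comp]
    exact congrArg (fun f : Γ(T.left, ⊤) ⟶ CommRingCat.of (ring R P) => f.hom r) h1
  have hΦm : ∀ m r, Φ (cst P T r * E T m) = MonoidAlgebra.single m (1 : MagnetAttr.Zu.{u}) ⊗ₜ r := by
    intro m r
    rw [map_mul, hΦc, hΦE, Algebra.TensorProduct.tmul_mul_tmul, _root_.one_mul, _root_.mul_one]
  let L : (Multiplicative P →₀ Γ(T.left, ⊤)) →+ Γ((AMonS S P ⊗ T).left, ⊤) :=
    Finsupp.liftAddHom fun m => (AddMonoidHom.mulRight (E T m)).comp (cst P T).toAddMonoidHom
  have hL : ∀ m r, L (Finsupp.single m r) = cst P T r * E T m := fun m r => by simp [L]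
  have hcoef : ∀ (v : Multiplicative P →₀ Γ(T.left, ⊤)) m, coefR R m (Φ (L v)) = v m := by
    intro v m
    induction v using Finsupp.induction_linear with
    | zero => rw [map_zero, map_zero, map_zero]; rfl
    | add p q hp hq => simp only [map_add, hp, hq, Finsupp.add_apply]
    | single n r =>
      rw [hL, hΦm, coefR_single, map_one, _root_.one_mul, Finsupp.single_apply]
  have hbij : Function.Bijective L := by
    refine ⟨fun v w h => Finsupp.ext fun m => ?_, fun x => ?_⟩
    · rw [← hcoef v m, ← hcoef w m, h]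
    · obtain ⟨s, hs⟩ := exists_finset (Φ x)
      refine ⟨∑ m ∈ s, Finsupp.single m (coefR R m (Φ x)), hΦ.1 ?_⟩
      conv_rhs => rw [hs s subset_rfl]
      rw [map_sum, map_sum]
      exact Finset.sum_congr rfl fun m _ => by rw [hL, hΦm]
  refine ⟨(AddEquiv.ofBijective L hbij).symm, fun m r => ?_⟩
  rw [AddEquiv.symm_apply_eq]
  exact (hL m r).symm

end Groth.Agent.MagnetEtale
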