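import Groth.Agent.MagnetEtale.Spread
import Groth.Agent.MagnetHomotopy
import Groth.Agent.MagnetAttr.Sheaf
import Groth.Agent.MagnetAttr.Sep
import Groth.Agent.MagnetAttr.Directed
import Groth.Agent.S18290
import Mathlib

/-!
# Attractors and étale equivariant maps
-/

set_option autoImplicit false
set_option backward.isDefEq.respectTransparency false
set_option backward.isDefEq.respectTransparency.types false
set_option linter.style.haveILetI false
set_option linter.unusedSimpArgs false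
set_option maxHeartbeats 1000000
set_option synthInstance.maxHeartbeats 100000

universe u

open CategoryTheory CategoryTheory.Limits MonoidalCategory CartesianMonoidalCategory MonObj AlgebraicGeometry Opposite
open Magnet

namespace Groth.Agent.MagnetEtale

open Groth.Agent.MagnetPts (co co_comp co_ext co_map co_mul co_faceMap_of_mem co_faceMap_of_notMem)

variable {S : Scheme.{u}} {M : Type} [AddCommGroup M] {X U : Over S}
  (aX : MonAct (AMonS S M) X) (aU : MonAct (AMonS S M) U) (f : U ⟶ X)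

/-- A lift of a pair of families along a face. -/
def IsLift {N F : AddSubmonoid M} (hF : IsFace N F) {T : Over S} (φX : (attr aX N).obj (op T))
    (φQ : (attr aU F).obj (op T)) (ψ : (attr aU N).obj (op T)) : Prop :=
  (AMonS.faceMap S hF ▷ T) ≫ ψ.1 = φQ.1 ∧ ψ.1 ≫ f = φX.1

variable {aX aU f}

theorem small_fix {N F : AddSubmonoid M} (hF : IsFace N F) {lam : N →+ ℕ} (hlam : ∀ m : N, lam m = 0 ↔ (m : M) ∈ F)
    {W : Over S} (b : W ⟶ AMonS S N) (hb : Small lam 1 b) :
    (b ≫ AMonS.map S (AddSubmonoid.inclusion hF.le)) ≫ AMonS.faceMap S hF = b := by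
  refine co_ext fun n' => ?_
  obtain ⟨n, rfl⟩ : ∃ n, Multiplicative.ofAdd n = n' := ⟨n'.toAdd, rfl⟩
  by_cases hn : (n : M) ∈ F
  · rw [co_faceMap_of_mem hF _ n hn, co_map]
    rfl
  · rw [co_faceMap_of_notMem hF _ n hn]
    exact (hb n (Nat.one_le_iff_ne_zero.2 fun h => hn ((hlam n).1 h))).symm

theorem eq_of_lifts_fg [AddGroup.FG M] [IsAffineHom U.hom] [Etale f.left] {N F : AddSubmonoid M} (hN : N.FG)
    (hF : IsFace N F) (T : Over S) [IsAffine T.left] (ψ ψ' : (attr aU N).obj (op T))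
    (h1 : (AMonS.faceMap S hF ▷ T) ≫ ψ.1 = (AMonS.faceMap S hF ▷ T) ≫ ψ'.1) (h2 : ψ.1 ≫ f = ψ'.1 ≫ f) : ψ = ψ' := by
  obtain ⟨lam, hlam⟩ := MagnetHomotopy.exists_functional hN hF.le hF.mem_of_add_mem
  haveI : IsSeparated U.hom := inferInstance
  refine Subtype.ext (eq_of_forall_small lam T _ _ fun n W b t hb => ?_)
  refine eq_of_small f lam T b t hb _ _ ?_ fun V v hv => ?_
  · rw [Category.assoc, Category.assoc, h2]
  · have key : ∀ w : AMonS S N ⊗ T ⟶ U, v ≫ lift b t ≫ w =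
        lift ((v ≫ b) ≫ AMonS.map S (AddSubmonoid.inclusion hF.le)) (v ≫ t) ≫ (AMonS.faceMap S hF ▷ T) ≫ w := by
      intro w
      rw [lift_whiskerRight_assoc, small_fix hF hlam (v ≫ b) hv, comp_lift_assoc]
    rw [key, key, h1]

theorem exists_lift_fg [AddGroup.FG M] [IsAffineHom U.hom] [Etale f.left] (hf : MonAct.IsEquivariant aU aX f)
    {N F : AddSubmonoid M} (hN : N.FG) (hF : IsFace N F) (T : Over S) [IsAffine T.left] (φX : (attr aX N).obj (op T))
    (φQ : (attr aU F).obj (op T)) (hφ : (AMonS.faceMap S hF ▷ T) ≫ φX.1 = φQ.1 ≫ f) :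
    ∃ ψ, IsLift aX aU f hF φX φQ ψ := by
  obtain ⟨lam, hlam⟩ := MagnetHomotopy.exists_functional hN hF.le hF.mem_of_add_mem
  obtain ⟨ψ, h1, h2⟩ := exists_lift (f := f) aX aU hf hF hlam T φX φQ hφ
  refine ⟨ψ, h1, congrArg Subtype.val (eq_of_agree_small lam T aX ((MonAct.eqvHom.postcomp (subAct S M N) f hf).app (op T) ψ) φX
    fun n W b t hb => h2 n W b t hb)⟩

theorem attrToX_attrMap' {Z : Over S} (a : MonAct (AMonS S M) Z) {N L : AddSubmonoid M} (h : N ≤ L) (T : Over S)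
    (φ : (attr a N).obj (op T)) :
    (attrToX a L).app (op T) ((attrMap a h).app (op T) φ) = (attrToX a N).app (op T) φ := by
  show lift (toUnit T ≫ η[AMonS S L]) (𝟙 T) ≫ (AMonS.map S (AddSubmonoid.inclusion h) ▷ T) ≫ φ.1 =
    lift (toUnit T ≫ η[AMonS S N]) (𝟙 T) ≫ φ.1
  rw [lift_whiskerRight_assoc, Category.assoc, IsMonHom.one_hom]

theorem attrMap_injective {Z : Over S} [IsSeparated Z.hom] (a : MonAct (AMonS S M) Z) {N L : AddSubmonoid M} (h : N ≤ L)
    (T : Over S) : Function.Injective (fun φ => (attrMap a h).app (op T) φ) := by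
  intro φ φ' e
  refine MagnetAttr.attrToX_injective a N T ?_
  show (attrToX a N).app (op T) φ = (attrToX a N).app (op T) φ'
  rw [← attrToX_attrMap' a h, ← attrToX_attrMap' a h]
  exact congrArg _ e

/-- The submonoids generated by finite subsets of `N`. -/
def sub (N : AddSubmonoid M) (s : Finset N) : AddSubmonoid M :=
  AddSubmonoid.closure ((fun x : N => (x : M)) '' (s : Set N))

theorem sub_le (N : AddSubmonoid M) (s : Finset N) : sub N s ≤ N :=
  AddSubmonoid.closure_le.2 fun _ ⟨x, _, e⟩ => e ▸ x.2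

theorem sub_mono (N : AddSubmonoid M) : Monotone (sub N) := fun _ _ h =>
  AddSubmonoid.closure_mono (Set.image_mono (Finset.coe_subset.2 h))

theorem iSup_sub (N : AddSubmonoid M) : ⨆ s, sub N s = N := by
  classical
  refine le_antisymm (iSup_le (sub_le N)) fun x hx => ?_
  exact AddSubmonoid.mem_iSup_of_mem {⟨x, hx⟩} (AddSubmonoid.subset_closure ⟨⟨x, hx⟩, by simp, rfl⟩)

theorem iSup_sub_inf {N F : AddSubmonoid M} (hF : IsFace N F) : ⨆ s, (sub N s ⊓ F) = F := by
  classical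
  refine le_antisymm (iSup_le fun s => inf_le_right) fun x hx => ?_
  exact AddSubmonoid.mem_iSup_of_mem {⟨x, hF.le hx⟩}
    ⟨AddSubmonoid.subset_closure ⟨⟨x, hF.le hx⟩, by simp, rfl⟩, hx⟩

theorem isFace_sub {N F : AddSubmonoid M} (hF : IsFace N F) (s : Finset N) : IsFace (sub N s) (sub N s ⊓ F) :=
  ⟨inf_le_left, fun x hx y hy h =>
    ⟨⟨hx, (hF.mem_of_add_mem x (sub_le N s hx) y (sub_le N s hy) h.2).1⟩,
      ⟨hy, (hF.mem_of_add_mem x (sub_le N s hx) y (sub_le N s hy) h.2).2⟩⟩⟩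

theorem faceMap_comm {N F N' F' : AddSubmonoid M} (hF : IsFace N F) (hF' : IsFace N' F') (hN : N' ≤ N) (hFF : F' ≤ F)
    (hinf : ∀ x : M, x ∈ N' → x ∈ F → x ∈ F') :
    AMonS.faceMap S hF ≫ AMonS.map S (AddSubmonoid.inclusion hN) =
      AMonS.map S (AddSubmonoid.inclusion hFF) ≫ AMonS.faceMap S hF' := by
  rw [← Category.id_comp (AMonS.faceMap S hF), ← Category.id_comp (AMonS.map S (AddSubmonoid.inclusion hFF))]
  refine co_ext fun n' => ?_
  obtain ⟨n, rfl⟩ : ∃ n, Multiplicative.ofAdd n = n' := ⟨n'.toAdd, rfl⟩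
  rw [co_map, toAdd_ofAdd]
  by_cases hn : (n : M) ∈ F'
  · rw [co_faceMap_of_mem hF' _ n hn, co_map, toAdd_ofAdd,
      co_faceMap_of_mem hF _ (AddSubmonoid.inclusion hN n) (hFF hn)]
    rfl
  · rw [co_faceMap_of_notMem hF' _ n hn,
      co_faceMap_of_notMem hF _ (AddSubmonoid.inclusion hN n) fun h => hn (hinf _ n.2 h)]

theorem attrMap_face {Z : Over S} (a : MonAct (AMonS S M) Z) {N F N' F' : AddSubmonoid M} (hF : IsFace N F)
    (hF' : IsFace N' F') (hN : N' ≤ N) (hFF : F' ≤ F) (hinf : ∀ x : M, x ∈ N' → x ∈ F → x ∈ F') (T : Over S)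
    (φ : (attr a N').obj (op T)) :
    (attrFace a hF).app (op T) ((attrMap a hN).app (op T) φ) = (attrMap a hFF).app (op T) ((attrFace a hF').app (op T) φ) := by
  apply Subtype.ext
  show (AMonS.faceMap S hF ▷ T) ≫ (AMonS.map S (AddSubmonoid.inclusion hN) ▷ T) ≫ φ.1 =
    (AMonS.map S (AddSubmonoid.inclusion hFF) ▷ T) ≫ (AMonS.faceMap S hF' ▷ T) ≫ φ.1
  rw [← comp_whiskerRight_assoc, ← comp_whiskerRight_assoc, faceMap_comm hF hF' hN hFF hinf]

theorem exists_sub {Z : Over S} [IsSeparated Z.hom] [LocallyOfFinitePresentation Z.hom] (a : MonAct (AMonS S M) Z)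
    {L : AddSubmonoid M} {J : Type} [Preorder J] [IsDirected J (· ≤ ·)] [Nonempty J] (Nj : J → AddSubmonoid M)
    (hmono : Monotone Nj) (hL : ∀ j, Nj j ≤ L) (hsup : ⨆ j, Nj j = L) (T : Over S) [IsAffine T.left]
    (φ : (attr a L).obj (op T)) :
    ∃ (j : J) (φ' : (attr a (Nj j)).obj (op T)), (attrMap a (hL j)).app (op T) φ' = φ := by
  subst hsup
  exact S18290.result S M Z a Nj hmono T φ

theorem attrMap_trans {Z : Over S} (a : MonAct (AMonS S M) Z) {N L K : AddSubmonoid M} (h : N ≤ L) (h' : L ≤ K)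
    (T : Over S) (φ : (attr a N).obj (op T)) :
    (attrMap a h').app (op T) ((attrMap a h).app (op T) φ) = (attrMap a (h.trans h')).app (op T) φ := by
  apply Subtype.ext
  show (AMonS.map S (AddSubmonoid.inclusion h') ▷ T) ≫ (AMonS.map S (AddSubmonoid.inclusion h) ▷ T) ≫ φ.1 =
    (AMonS.map S (AddSubmonoid.inclusion (h.trans h')) ▷ T) ≫ φ.1
  rw [← comp_whiskerRight_assoc, ← AMonS.map_comp]
  rfl

theorem eq_of_lifts_sep [AddGroup.FG M] [IsAffineHom U.hom] [Etale f.left] [IsSeparated X.hom]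
    [LocallyOfFinitePresentation X.hom] (hf : MonAct.IsEquivariant aU aX f) {N F : AddSubmonoid M}
    (hF : IsFace N F) (T : Over S) [IsAffine T.left] (ψ ψ' : (attr aU N).obj (op T))
    (h1 : (AMonS.faceMap S hF ▷ T) ≫ ψ.1 = (AMonS.faceMap S hF ▷ T) ≫ ψ'.1) (h2 : ψ.1 ≫ f = ψ'.1 ≫ f) : ψ = ψ' := by
  classical
  haveI : LocallyOfFinitePresentation U.hom := by rw [← Over.w f]; infer_instance
  obtain ⟨i, ψi, rfl⟩ := exists_sub aU (sub N) (sub_mono N) (sub_le N) (iSup_sub N) T ψ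
  obtain ⟨i', ψi', rfl⟩ := exists_sub aU (sub N) (sub_mono N) (sub_le N) (iSup_sub N) T ψ'
  have hi : i ≤ i ∪ i' := Finset.subset_union_left
  have hi' : i' ≤ i ∪ i' := Finset.subset_union_right
  rw [← attrMap_trans aU (sub_mono N hi) (sub_le N (i ∪ i')), ← attrMap_trans aU (sub_mono N hi') (sub_le N (i ∪ i'))] at h1 h2 ⊢
  refine congrArg _ (eq_of_lifts_fg (f := f) ((AddSubmonoid.fg_iff _).2 ⟨_, rfl, Set.Finite.image _ (Finset.finite_toSet _)⟩)
    (isFace_sub hF (i ∪ i')) T _ _ ?_ ?_)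
  · have e := fun φ => attrMap_face aU hF (isFace_sub hF (i ∪ i')) (sub_le N _) inf_le_right (fun x hx h => ⟨hx, h⟩) T φ
    exact congrArg Subtype.val (attrMap_injective aU inf_le_right T
      ((e _).symm.trans ((Subtype.ext h1).trans (e _))))
  · exact congrArg Subtype.val (attrMap_injective aX (sub_le N (i ∪ i')) T
      (a₁ := (MonAct.eqvHom.postcomp (subAct S M _) f hf).app (op T) ((attrMap aU (sub_mono N hi)).app (op T) ψi))
      (a₂ := (MonAct.eqvHom.postcomp (subAct S M _) f hf).app (op T) ((attrMap aU (sub_mono N hi')).app (op T) ψi'))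
      (Subtype.ext (by simpa only [attrMap, MonAct.eqvHom.precomp_app_coe, MonAct.eqvHom.postcomp_app_coe, Category.assoc] using h2)))

theorem exists_lift_sep [AddGroup.FG M] [IsAffineHom U.hom] [Etale f.left] [IsSeparated X.hom]
    [LocallyOfFinitePresentation X.hom] (hf : MonAct.IsEquivariant aU aX f) {N F : AddSubmonoid M}
    (hF : IsFace N F) (T : Over S) [IsAffine T.left] (φX : (attr aX N).obj (op T))
    (φQ : (attr aU F).obj (op T)) (hφ : (AMonS.faceMap S hF ▷ T) ≫ φX.1 = φQ.1 ≫ f) :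
    ∃ ψ, IsLift aX aU f hF φX φQ ψ := by
  classical
  haveI : LocallyOfFinitePresentation U.hom := by rw [← Over.w f]; infer_instance
  obtain ⟨i, φi, rfl⟩ := exists_sub aX (sub N) (sub_mono N) (sub_le N) (iSup_sub N) T φX
  obtain ⟨i', φi', rfl⟩ := exists_sub aU (fun s => sub N s ⊓ F) (fun _ _ h => inf_le_inf_right F (sub_mono N h))
    (fun _ => inf_le_right) (iSup_sub_inf hF) T φQ
  have hi : sub N i ≤ sub N (i ∪ i') := sub_mono N Finset.subset_union_left
  have hi' : sub N i' ⊓ F ≤ sub N (i ∪ i') ⊓ F := inf_le_inf_right F (sub_mono N Finset.subset_union_right)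
  have hQ : sub N (i ∪ i') ⊓ F ≤ F := inf_le_right
  rw [← attrMap_trans aX hi (sub_le N (i ∪ i'))] at hφ ⊢
  rw [← attrMap_trans aU hi' hQ] at hφ ⊢
  obtain ⟨ψ, e1, e2⟩ := exists_lift_fg (f := f) hf
    ((AddSubmonoid.fg_iff _).2 ⟨_, rfl, Set.Finite.image _ (Finset.finite_toSet _)⟩)
    (isFace_sub hF (i ∪ i')) T ((attrMap aX hi).app (op T) φi) ((attrMap aU hi').app (op T) φi') (by
      refine congrArg Subtype.val (attrMap_injective aX hQ T
        (a₁ := (attrFace aX (isFace_sub hF (i ∪ i'))).app (op T) ((attrMap aX hi).app (op T) φi))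
        (a₂ := (MonAct.eqvHom.postcomp (subAct S M _) f hf).app (op T) ((attrMap aU hi').app (op T) φi')) ?_)
      refine (attrMap_face aX hF (isFace_sub hF (i ∪ i')) (sub_le N _) hQ (fun x hx h => ⟨hx, h⟩) T _).symm.trans ?_
      exact Subtype.ext (hφ.trans (Category.assoc _ _ _)))
  refine ⟨(attrMap aU (sub_le N (i ∪ i'))).app (op T) ψ, ?_, ?_⟩
  · refine congrArg Subtype.val ((attrMap_face aU hF (isFace_sub hF (i ∪ i')) (sub_le N _) hQ (fun x hx h => ⟨hx, h⟩) T ψ).trans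
      (congrArg (fun φ => (attrMap aU hQ).app (op T) φ) (Subtype.ext e1)))
  · show ((AMonS.map S (AddSubmonoid.inclusion (sub_le N (i ∪ i'))) ▷ T) ≫ ψ.1) ≫ f = _
    rw [Category.assoc, e2]
    rfl

end Groth.Agent.MagnetEtale
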