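import Groth.Agent.MagnetEtale.Basis
import Groth.Agent.S5075
import Groth.Prelude.Def_Magnet4
import Mathlib

/-!
# Infinitesimal neighbourhoods of a face in a diagonalizable monoid
-/

set_option autoImplicit false
set_option backward.isDefEq.respectTransparency false
set_option backward.isDefEq.respectTransparency.types false
set_option linter.style.haveILetI false
set_option linter.unusedSimpArgs false
set_option maxHeartbeats 1000000
set_option synthInstance.maxHeartbeats 100000

universe u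

open CategoryTheory CategoryTheory.Limits MonoidalCategory CartesianMonoidalCategory MonObj AlgebraicGeometry Opposite
open Magnet

namespace Groth.Agent.MagnetEtale

open Groth.Agent.MagnetPts (co co_comp co_ext co_map co_faceMap_of_mem co_faceMap_of_notMem co_mul)

variable {S : Scheme.{u}}

section Repr

variable {P : Type} [AddCommMonoid P] {T : Over S}

/-- The coordinates in the monomial basis. -/
noncomputable def coord (T : Over S) [IsAffine T.left] :
    Γ((AMonS S P ⊗ T).left, ⊤) ≃+ (Multiplicative P →₀ Γ(T.left, ⊤)) := (exists_basis P T).choose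

variable [IsAffine T.left]

theorem coord_mul (m : Multiplicative P) (r : Γ(T.left, ⊤)) :
    coord T (cst P T r * E T m) = Finsupp.single m r := (exists_basis P T).choose_spec m r

theorem eq_sum (x : Γ((AMonS S P ⊗ T).left, ⊤)) :
    x = ∑ m ∈ (coord T x).support, cst P T (coord T x m) * E T m := by
  apply (coord T).injective
  rw [map_sum]
  simp only [coord_mul]
  exact (Finsupp.sum_single (coord T x)).symm

omit [IsAffine T.left] in
theorem E_mul (m k : Multiplicative P) : E T m * E T k = E T (m * k) := (map_mul _ _ _).symm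

theorem coord_sum_mul {κ : Type*} (s : Finset κ) (g : κ → Multiplicative P) (r : κ → Γ(T.left, ⊤)) :
    coord T (∑ i ∈ s, cst P T (r i) * E T (g i)) = ∑ i ∈ s, Finsupp.single (g i) (r i) := by
  rw [map_sum]
  exact Finset.sum_congr rfl fun i _ => coord_mul _ _

end Repr

variable {M : Type} [AddCommMonoid M] {N F : AddSubmonoid M}

/-- A point all of whose monomials of weight at least `n` vanish. -/
def Small (lam : N →+ ℕ) (n : ℕ) {W : Over S} (b : W ⟶ AMonS S N) : Prop :=
  ∀ m : N, n ≤ lam m → co b (Multiplicative.ofAdd m) = 0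

theorem Small.mono {lam : N →+ ℕ} {n n' : ℕ} (h : n ≤ n') {W : Over S} {b : W ⟶ AMonS S N} (hb : Small lam n b) :
    Small lam n' b := fun m hm => hb m (h.trans hm)

theorem Small.comp {lam : N →+ ℕ} {n : ℕ} {W V : Over S} {b : W ⟶ AMonS S N} (hb : Small lam n b) (v : V ⟶ W) :
    Small lam n (v ≫ b) := fun m hm => by rw [co_comp, hb m hm, map_zero]

theorem Small.mul_left {lam : N →+ ℕ} {n : ℕ} {W : Over S} {b : W ⟶ AMonS S N} (hb : Small lam n b)
    (c : W ⟶ AMonS S N) : Small lam n (c * b) := fun m hm => by rw [co_mul, hb m hm, mul_zero]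

/-- A point of weight zero lies on the face. -/
theorem Small.factor {lam : N →+ ℕ} (hF : IsFace N F) (hlam : ∀ m : N, lam m = 0 ↔ (m : M) ∈ F) {W : Over S}
    {b : W ⟶ AMonS S N} (hb : Small lam 1 b) :
    (b ≫ AMonS.map S (AddSubmonoid.inclusion hF.le)) ≫ AMonS.faceMap S hF = b := by
  refine co_ext fun m => ?_
  obtain ⟨m, rfl⟩ : ∃ k : N, Multiplicative.ofAdd k = m := ⟨m.toAdd, rfl⟩
  by_cases h : (m : M) ∈ F
  · rw [co_faceMap_of_mem hF _ m h, co_map]
    rfl
  · rw [co_faceMap_of_notMem hF _ m h, hb m (Nat.one_le_iff_ne_zero.2 (fun e => h ((hlam m).1 e)))]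

theorem small_one_faceMap {lam : N →+ ℕ} (hF : IsFace N F) (hlam : ∀ m : N, lam m = 0 ↔ (m : M) ∈ F) {W : Over S}
    (b : W ⟶ AMonS S F) : Small lam 1 (b ≫ AMonS.faceMap S hF) := fun m hm =>
  co_faceMap_of_notMem hF _ m fun h => Nat.one_le_iff_ne_zero.1 hm ((hlam m).2 h)

/-- The `n`-th neighbourhood of the face. -/
theorem exists_smallObj (lam : N →+ ℕ) (n : ℕ) (T : Over S) [IsAffine T.left] :
    ∃ (Y : Over S) (y : Y ⟶ AMonS S N ⊗ T), IsAffine Y.left ∧ IsClosedImmersion y.left ∧
      Small lam n (y ≫ fst _ _) ∧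
      (∀ x, y.left.appTop x = 0 ↔ ∀ m : N, lam m < n → coord T x (Multiplicative.ofAdd m) = 0) ∧
      Function.Surjective y.left.appTop ∧
      ∀ (W : Over S) (b : W ⟶ AMonS S N) (t : W ⟶ T), Small lam n b → ∃ z : W ⟶ Y, z ≫ y = lift b t := by
  classical
  let A := AMonS S N ⊗ T
  haveI : IsAffine (AMon MagnetPts.Zu.{u} N).left := inferInstanceAs (IsAffine (Spec _))
  haveI : IsAffineHom (AMon MagnetPts.Zu.{u} N).hom := isAffineHom_of_isAffine _
  haveI : IsAffineHom (AMonS S N).hom := MorphismProperty.pullback_snd _ _ inferInstance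
  haveI : IsAffineHom (snd (AMonS S N) T).left := MorphismProperty.pullback_snd _ _ inferInstance
  haveI : IsAffine A.left := isAffine_of_isAffineHom (snd (AMonS S N) T).left
  let J : Ideal Γ(A.left, ⊤) := Ideal.span ((fun m : N => E T (Multiplicative.ofAdd m)) '' {m | n ≤ lam m})
  have hJ : ∀ x, x ∈ J ↔ ∀ m : N, lam m < n → coord T x (Multiplicative.ofAdd m) = 0 := by
    intro x
    refine ⟨fun hx => ?_, fun hx => ?_⟩
    · induction hx using Submodule.span_induction with
      | mem y hy =>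
        obtain ⟨k, hk, rfl⟩ := hy
        intro m hm
        show coord T (E T (Multiplicative.ofAdd k)) _ = 0
        rw [← _root_.one_mul (E T (Multiplicative.ofAdd k)), ← map_one (cst N T), coord_mul, Finsupp.single_apply, if_neg]
        intro e
        rw [Multiplicative.ofAdd.injective e] at hk
        exact absurd hk (not_le.2 hm)
      | zero => intro m _; simp
      | add y z _ _ hy hz => intro m hm; rw [map_add, Finsupp.add_apply, hy m hm, hz m hm, add_zero]
      | smul a y _ hy =>
        intro m hm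
        have key : a • y = ∑ i ∈ (coord T a).support ×ˢ (coord T y).support,
            cst N T (coord T a i.1 * coord T y i.2) * E T (i.1 * i.2) := by
          rw [smul_eq_mul, eq_sum a, eq_sum y, Finset.sum_mul_sum, ← eq_sum a, ← eq_sum y, Finset.sum_product]
          refine Finset.sum_congr rfl fun i _ => Finset.sum_congr rfl fun k _ => ?_
          rw [map_mul, ← E_mul]
          ring
        rw [key, coord_sum_mul, Finsupp.finsetSum_apply, Finset.sum_eq_zero]
        rintro ⟨i, k⟩ hik
        rw [Finsupp.single_apply, if_neg]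
        intro e
        have hk : lam k.toAdd < n := by
          have : lam i.toAdd + lam k.toAdd = lam m := by
            rw [← map_add]; exact congrArg lam (congrArg Multiplicative.toAdd e)
          omega
        exact Finsupp.mem_support_iff.1 (Finset.mem_product.1 hik).2 (hy k.toAdd hk)
    · rw [eq_sum x]
      refine Ideal.sum_mem _ fun m hm => Ideal.mul_mem_left _ _ (Ideal.subset_span ⟨m.toAdd, ?_, rfl⟩)
      exact not_lt.1 fun h => Finsupp.mem_support_iff.1 hm (hx m.toAdd h)
  let π : Γ(A.left, ⊤) ⟶ CommRingCat.of (Γ(A.left, ⊤) ⧸ J) := CommRingCat.ofHom (Ideal.Quotient.mk J)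
  let Y : Over S := Over.mk (Spec.map π ≫ A.left.isoSpec.inv ≫ A.hom)
  let y : Y ⟶ A := Over.homMk (Spec.map π ≫ A.left.isoSpec.inv) (Category.assoc _ _ _)
  haveI : IsClosedImmersion (Spec.map π) := IsClosedImmersion.spec_of_surjective π Ideal.Quotient.mk_surjective
  have hy : y.left.appTop = π ≫ (Scheme.ΓSpecIso (CommRingCat.of (Γ(A.left, ⊤) ⧸ J))).inv := by
    show (Spec.map π ≫ A.left.isoSpec.inv).appTop = _
    rw [Scheme.Hom.comp_appTop, Scheme.ΓSpecIso_inv_naturality]
    congr 1
    rw [← IsIso.inv_eq_inv]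
    simp [Scheme.isoSpec]
  have hinj : Function.Injective (Scheme.ΓSpecIso (CommRingCat.of (Γ(A.left, ⊤) ⧸ J))).inv :=
    ((ConcreteCategory.isIso_iff_bijective (Scheme.ΓSpecIso (CommRingCat.of (Γ(A.left, ⊤) ⧸ J))).inv).1 inferInstance).1
  have hzero : ∀ x, y.left.appTop x = 0 ↔ x ∈ J := by
    intro x
    rw [hy, ← Ideal.Quotient.eq_zero_iff_mem]
    exact map_eq_zero_iff _ hinj
  refine ⟨Y, y, inferInstanceAs (IsAffine (Spec _)), inferInstanceAs (IsClosedImmersion (Spec.map π ≫ A.left.isoSpec.inv)),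
    fun m hm => ?_, fun x => (hzero x).trans (hJ x), ?_, fun W b t hb => ?_⟩
  · rw [co_comp]
    exact (hzero _).2 (Ideal.subset_span ⟨m, hm, rfl⟩)
  · rw [hy]
    intro z
    obtain ⟨w, rfl⟩ := ((ConcreteCategory.isIso_iff_bijective (Scheme.ΓSpecIso (CommRingCat.of (Γ(A.left, ⊤) ⧸ J))).inv).1 inferInstance).2 z
    obtain ⟨x, rfl⟩ := Ideal.Quotient.mk_surjective w
    exact ⟨x, rfl⟩
  · let l : W ⟶ A := lift b t
    have hker : ∀ x ∈ J, l.left.appTop.hom x = 0 := fun x hx => by
      refine (RingHom.mem_ker (f := l.left.appTop.hom)).1 (Ideal.span_le.2 ?_ hx)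
      rintro _ ⟨m, hm, rfl⟩
      show l.left.appTop (co _ _) = 0
      rw [← co_comp, lift_fst]
      exact hb m hm
    let q : CommRingCat.of (Γ(A.left, ⊤) ⧸ J) ⟶ Γ(W.left, ⊤) := CommRingCat.ofHom (Ideal.Quotient.lift J l.left.appTop.hom hker)
    have hq : π ≫ q = l.left.appTop := CommRingCat.hom_ext (RingHom.ext fun r => Ideal.Quotient.lift_mk J _ hker)
    have hl : (W.left.toSpecΓ ≫ Spec.map q) ≫ y.left = l.left := by
      show (W.left.toSpecΓ ≫ Spec.map q) ≫ Spec.map π ≫ A.left.isoSpec.inv = _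
      rw [Category.assoc, ← Spec.map_comp_assoc, hq, ← Scheme.toSpecΓ_naturality_assoc l.left]
      exact (congrArg (l.left ≫ ·) A.left.isoSpec.hom_inv_id).trans (Category.comp_id _)
    exact ⟨Over.homMk (W.left.toSpecΓ ≫ Spec.map q) (by rw [← Over.w y, ← Category.assoc, hl, Over.w]),
      Over.OverMorphism.ext hl⟩

/-- The points of weight zero of a small point form a surjective closed subscheme. -/
theorem exists_reduced (lam : N →+ ℕ) {n : ℕ} (T : Over S) [IsAffine T.left] {W : Over S}
    (b : W ⟶ AMonS S N) (t : W ⟶ T) (hb : Small lam n b) :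
    ∃ (W₁ : Over S) (i : W₁ ⟶ W), IsClosedImmersion i.left ∧ Surjective i.left ∧ Small lam 1 (i ≫ b) := by
  obtain ⟨Y, y, -, hy, hsm, -, -, huniv⟩ := exists_smallObj lam 1 T
  let l : W ⟶ AMonS S N ⊗ T := lift b t
  let i₀ := pullback.fst l.left y.left
  let W₁ : Over S := Over.mk (i₀ ≫ W.hom)
  let i : W₁ ⟶ W := Over.homMk i₀ rfl
  let z : W₁ ⟶ Y := Over.homMk (pullback.snd l.left y.left) (by
    show pullback.snd l.left y.left ≫ Y.hom = i₀ ≫ W.hom
    rw [← Over.w y, ← pullback.condition_assoc, Over.w])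
  have hz : z ≫ y = i ≫ l := Over.OverMorphism.ext pullback.condition.symm
  refine ⟨W₁, i, MorphismProperty.pullback_fst _ _ hy, ⟨fun p => ?_⟩, ?_⟩
  · let K := W.left.residueField p
    let V : Over S := Over.mk (W.left.fromSpecResidueField p ≫ W.hom)
    let v : V ⟶ W := Over.homMk (W.left.fromSpecResidueField p) rfl
    have hv : Small lam 1 (v ≫ b) := by
      intro m hm
      haveI : IsReduced V.left := inferInstanceAs (IsReduced (Spec _))
      refine IsNilpotent.eq_zero ⟨n, ?_⟩
      rw [← map_pow, ← ofAdd_nsmul]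
      refine (hb.comp v) _ ?_
      rw [map_nsmul, smul_eq_mul]
      exact le_mul_of_one_le_right (Nat.zero_le n) hm
    obtain ⟨z', hz'⟩ := huniv V (v ≫ b) (v ≫ t) hv
    let l₀ : V.left ⟶ pullback l.left y.left := pullback.lift v.left z'.left (by
      rw [← Over.comp_left, ← Over.comp_left, hz', comp_lift])
    refine ⟨l₀ (IsLocalRing.closedPoint _), ?_⟩
    show i₀ (l₀ _) = p
    rw [← Scheme.Hom.comp_apply, pullback.lift_fst]
    exact Scheme.fromSpecResidueField_apply _ _
  · have h := hsm.comp z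
    rw [reassoc_of% hz] at h
    simp only [l, lift_fst] at h
    exact h

variable {X U : Over S} (f : U ⟶ X)

/-- Maps from a small point agreeing with each other after an unramified map and on weight zero agree. -/
theorem eq_of_small [Etale f.left] (lam : N →+ ℕ) {n : ℕ} (T : Over S) [IsAffine T.left] {W : Over S}
    (b : W ⟶ AMonS S N) (t : W ⟶ T) (hb : Small lam n b) (z z' : W ⟶ U) (hf : z ≫ f = z' ≫ f)
    (h1 : ∀ (V : Over S) (v : V ⟶ W), Small lam 1 (v ≫ b) → v ≫ z = v ≫ z') : z = z' := by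
  obtain ⟨W₁, i, -, hi, hi1⟩ := exists_reduced lam T b t hb
  refine Over.OverMorphism.ext ?_
  haveI := hi
  exact EtaleSections.eq_of_surjective f.left z.left z'.left i.left (congrArg CommaMorphism.left (h1 W₁ i hi1))
    (congrArg CommaMorphism.left hf)

/-- The unique lift on the neighbourhoods of the face. -/
theorem exists_formal [Etale f.left] {lam : N →+ ℕ} (hF : IsFace N F) (hlam : ∀ m : N, lam m = 0 ↔ (m : M) ∈ F)
    {T : Over S} [IsAffine T.left] (φX : AMonS S N ⊗ T ⟶ X) (φQ : AMonS S F ⊗ T ⟶ U)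
    (hφ : (AMonS.faceMap S hF ▷ T) ≫ φX = φQ ≫ f) {W : Over S} (b : W ⟶ AMonS S N) (t : W ⟶ T) {n : ℕ}
    (hb : Small lam n b) :
    ∃ z : W ⟶ U, z ≫ f = lift b t ≫ φX ∧ ∀ (V : Over S) (v : V ⟶ W), Small lam 1 (v ≫ b) →
      v ≫ z = lift (v ≫ b ≫ AMonS.map S (AddSubmonoid.inclusion hF.le)) (v ≫ t) ≫ φQ := by
  obtain ⟨W₁, i, hi, his, hi1⟩ := exists_reduced lam T b t hb
  let z₁ : W₁ ⟶ U := lift (i ≫ b ≫ AMonS.map S (AddSubmonoid.inclusion hF.le)) (i ≫ t) ≫ φQ
  have hz₁ : z₁ ≫ f = i ≫ lift b t ≫ φX := by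
    simp only [z₁, Category.assoc, ← hφ, lift_whiskerRight_assoc, comp_lift_assoc]
    have h := hi1.factor hF hlam
    simp only [Category.assoc] at h
    rw [h]
  haveI := hi
  haveI := his
  obtain ⟨z, ⟨hzf, hzi⟩, -⟩ := S5075.result f.left (lift b t ≫ φX).left i.left z₁.left (congrArg CommaMorphism.left hz₁)
  let z' : W ⟶ U := Over.homMk z (by rw [← Over.w f, reassoc_of% hzf]; exact Over.w (lift b t ≫ φX))
  have hz' : i ≫ z' = z₁ := Over.OverMorphism.ext hzi
  refine ⟨z', Over.OverMorphism.ext hzf, fun V v hv => ?_⟩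
  have hz'f : z' ≫ f = lift b t ≫ φX := Over.OverMorphism.ext hzf
  let P := pullback i.left v.left
  let V₁ : Over S := Over.mk (pullback.snd i.left v.left ≫ V.hom)
  let q : V₁ ⟶ V := Over.homMk (pullback.snd i.left v.left) rfl
  let r : V₁ ⟶ W₁ := Over.homMk (pullback.fst i.left v.left) (by
    show _ ≫ W₁.hom = pullback.snd _ _ ≫ V.hom
    rw [← Over.w i, ← Over.w v, pullback.condition_assoc])
  have hqr : r ≫ i = q ≫ v := Over.OverMorphism.ext pullback.condition
  haveI : Surjective q.left := inferInstanceAs (Surjective (pullback.snd i.left v.left))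
  refine Over.OverMorphism.ext (EtaleSections.eq_of_surjective f.left _ _ q.left (congrArg CommaMorphism.left
    (?_ : q ≫ v ≫ z' = q ≫ lift (v ≫ b ≫ _) (v ≫ t) ≫ φQ)) (congrArg CommaMorphism.left (?_ : (v ≫ z') ≫ f =
      (lift (v ≫ b ≫ AMonS.map S (AddSubmonoid.inclusion hF.le)) (v ≫ t) ≫ φQ) ≫ f)))
  · rw [← reassoc_of% hqr, hz']
    simp only [z₁, comp_lift_assoc, reassoc_of% hqr, hqr]
  · rw [Category.assoc, Category.assoc, hz'f, ← hφ, lift_whiskerRight_assoc, comp_lift_assoc, Category.assoc]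
    have h := hv.factor hF hlam
    simp only [Category.assoc] at h ⊢
    rw [h]

end Groth.Agent.MagnetEtale
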