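import Groth.Agent.MagnetEtale.Agree
import Mathlib

/-!
# Orbits of an open neighbourhood of a face cover the monoid scheme
-/

set_option autoImplicit false
set_option backward.isDefEq.respectTransparency false
set_option backward.isDefEq.respectTransparency.types false
set_option linter.style.haveILetI false
set_option linter.unusedSimpArgs false
set_option maxHeartbeats 1000000
set_option synthInstance.maxHeartbeats 100000

universe u

open CategoryTheory CategoryTheory.Limits MonoidalCategory CartesianMonoidalCategory MonObj AlgebraicGeometry Opposite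
open Magnet

namespace Groth.Agent.MagnetEtale

open Groth.Agent.MagnetPts (co co_comp co_ext co_map co_mul exists_co)

variable {S : Scheme.{u}} {M : Type} [AddCommGroup M] {N : AddSubmonoid M}

/-- A weight on a submonoid extends to a character of the group with values in a divisible group. -/
theorem exists_extend {D : Type u} [AddCommGroup D] [DivisibleBy D ℤ] (ψ : N →+ D) :
    ∃ χ : M →+ D, ∀ n : N, χ n = ψ n := by
  classical
  let H : AddSubgroup M :=
    { carrier := {x | ∃ a b : N, x = (a : M) - b}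
      zero_mem' := ⟨0, 0, by simp⟩
      add_mem' := by
        rintro _ _ ⟨a, b, rfl⟩ ⟨a', b', rfl⟩
        exact ⟨a + a', b + b', by push_cast; abel⟩
      neg_mem' := by
        rintro _ ⟨a, b, rfl⟩
        exact ⟨b, a, by abel⟩ }
  choose fa fb hab using fun x : H => x.2
  have hw : ∀ (x : H) (a b : N), (x : M) = (a : M) - b → ψ (fa x) - ψ (fb x) = ψ a - ψ b := by
    intro x a b hx
    have h := (hab x).symm.trans hx
    rw [sub_eq_sub_iff_add_eq_add, ← map_add, ← map_add]
    refine congrArg ψ (Subtype.ext ?_)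
    push_cast
    exact sub_eq_sub_iff_add_eq_add.1 h
  let ν : H →+ D := AddMonoidHom.mk' (fun x => ψ (fa x) - ψ (fb x)) fun x y => by
    rw [hw (x + y) (fa x + fa y) (fb x + fb y) (by push_cast; rw [hab x, hab y]; abel), map_add, map_add]
    abel
  obtain ⟨χ, hχ⟩ := (Module.Baer.of_divisible D).extension_property_addMonoidHom H.subtype H.subtype_injective ν
  refine ⟨χ, fun n => ?_⟩
  have hn : (n : M) ∈ H := ⟨n, 0, by simp⟩
  have h1 : χ n = ν ⟨n, hn⟩ := DFunLike.congr_fun hχ (⟨n, hn⟩ : H)
  rw [h1]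
  show ψ _ - ψ _ = _
  rw [hw ⟨n, hn⟩ n 0 (by simp), map_zero, sub_zero]

/-- Translation by a point of the torus. -/
noncomputable def transl {T W : Over S} (g : W ⟶ AMonS S M) (z : W ⟶ AMonS S N ⊗ T) : W ⟶ AMonS S N ⊗ T :=
  lift ((g ≫ AMonS.map S N.subtype) * (z ≫ fst _ _)) (z ≫ snd _ _)

theorem comp_transl {T W W' : Over S} (v : W' ⟶ W) (g : W ⟶ AMonS S M) (z : W ⟶ AMonS S N ⊗ T) :
    v ≫ transl g z = transl (v ≫ g) (v ≫ z) := by
  simp only [transl, comp_lift, MonObj.comp_mul, Category.assoc]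

variable (S M) in
/-- Inversion on the torus. -/
noncomputable def neg : AMonS S M ⟶ AMonS S M := AMonS.map S (-AddMonoidHom.id M)

theorem transl_neg {T W : Over S} (g : W ⟶ AMonS S M) (z : W ⟶ AMonS S N ⊗ T) :
    transl (g ≫ neg S M) (transl g z) = z := by
  refine CartesianMonoidalCategory.hom_ext _ _ ?_ ?_
  · simp only [transl, lift_fst, neg]
    refine co_ext fun m => ?_
    rw [co_mul, co_mul, co_map, co_map, co_map, ← _root_.mul_assoc, ← map_mul, ← ofAdd_add]
    simp
  · simp only [transl, lift_snd]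

theorem transl_neg' {T W : Over S} (g : W ⟶ AMonS S M) (z : W ⟶ AMonS S N ⊗ T) :
    transl g (transl (g ≫ neg S M) z) = z := by
  refine CartesianMonoidalCategory.hom_ext _ _ ?_ ?_
  · simp only [transl, lift_fst, neg]
    refine co_ext fun m => ?_
    rw [co_mul, co_mul, co_map, co_map, co_map, ← _root_.mul_assoc, ← map_mul, ← ofAdd_add]
    simp
  · simp only [transl, lift_snd]

/-- The open subobject. -/
noncomputable abbrev opensObj {T : Over S} (O : (AMonS S N ⊗ T).left.Opens) : Over S :=
  Over.mk (O.ι ≫ (AMonS S N ⊗ T).hom)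

/-- The inclusion of the open subobject. -/
noncomputable abbrev opensι {T : Over S} (O : (AMonS S N ⊗ T).left.Opens) : opensObj O ⟶ AMonS S N ⊗ T :=
  Over.homMk O.ι rfl

/-- The orbit map of an open subobject. -/
noncomputable abbrev orbit {T : Over S} (O : (AMonS S N ⊗ T).left.Opens) :
    AMonS S M ⊗ opensObj O ⟶ AMonS S N ⊗ T :=
  transl (fst _ _) (snd _ _ ≫ opensι O)

theorem flat_orbit {T : Over S} (O : (AMonS S N ⊗ T).left.Opens) : Flat (orbit (M := M) O).left := by
  let θ : AMonS S M ⊗ (AMonS S N ⊗ T) ⟶ AMonS S M ⊗ (AMonS S N ⊗ T) :=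
    lift (fst _ _) (transl (fst _ _) (snd _ _))
  let θ' : AMonS S M ⊗ (AMonS S N ⊗ T) ⟶ AMonS S M ⊗ (AMonS S N ⊗ T) :=
    lift (fst _ _) (transl (fst _ _ ≫ neg S M) (snd _ _))
  haveI : IsIso θ := ⟨θ', by
      simp only [θ, θ', comp_lift, comp_transl, lift_fst, lift_snd, lift_fst_assoc, transl_neg, lift_fst_snd], by
      simp only [θ, θ', comp_lift, comp_transl, lift_fst, lift_snd, transl_neg', lift_fst_snd]⟩
  have hα : (AMonS S M ◁ opensι O) ≫ θ ≫ snd _ _ = orbit (M := M) O := by
    simp only [θ, lift_snd, comp_transl, whiskerLeft_fst, whiskerLeft_snd]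
  haveI : Flat (AMonS S M).hom := by
    haveI : Flat (AMon MagnetPts.Zu.{u} M).hom := by
      show Flat (Spec.map (CommRingCat.ofHom (algebraMap MagnetPts.Zu.{u} (MagnetPts.ZA.{u} M))))
      rw [HasRingHomProperty.Spec_iff (P := @Flat)]
      exact RingHom.flat_algebraMap_iff.2 inferInstance
    exact MorphismProperty.pullback_snd (P := @Flat) _ _ ‹_›
  haveI : Flat (snd (AMonS S M) (AMonS S N ⊗ T)).left := MorphismProperty.pullback_snd (P := @Flat) _ _ ‹_›
  have hsq : IsPullback (AMonS S M ◁ opensι O).left (snd (AMonS S M) (opensObj O)).left (snd (AMonS S M) (AMonS S N ⊗ T)).left (opensι O).left := by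
    refine IsPullback.of_right (h₁₂ := pullback.fst (AMonS S M).hom (AMonS S N ⊗ T).hom) (v₁₁ := (snd (AMonS S M) (opensObj O)).left)
      (v₁₃ := (AMonS S M).hom) (h₂₂ := (AMonS S N ⊗ T).hom) ?_ ?_ (IsPullback.of_hasPullback _ _)
    · rw [Over.whiskerLeft_left_fst]
      exact IsPullback.of_hasPullback (AMonS S M).hom (opensObj O).hom
    · exact congrArg CommaMorphism.left (whiskerLeft_snd (AMonS S M) (opensι O))
  haveI : IsOpenImmersion (AMonS S M ◁ opensι O).left := MorphismProperty.of_isPullback hsq.flip (inferInstanceAs (IsOpenImmersion O.ι))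
  haveI : IsIso θ.left := inferInstanceAs (IsIso ((Over.forget S).map θ))
  rw [← hα]
  exact inferInstanceAs (Flat ((AMonS S M ◁ opensι O).left ≫ θ.left ≫ (snd (AMonS S M) (AMonS S N ⊗ T)).left))

theorem surjective_orbit (lam : N →+ ℕ) {T : Over S} [IsAffine T.left] (O : (AMonS S N ⊗ T).left.Opens)
    (hsmall : ∀ (W : Over S) (b : W ⟶ AMonS S N) (t : W ⟶ T), Small lam 1 b → Set.range (lift b t).left ⊆ O) :
    Surjective (orbit (M := M) O).left := ⟨fun p => by
    let A := AMonS S N ⊗ T
    let κ := A.left.residueField p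
    let V0 : Over S := Over.mk (A.left.fromSpecResidueField p ≫ A.hom)
    let ξ : V0 ⟶ A := Over.homMk (A.left.fromSpecResidueField p) rfl
    let C0 : CommRingCat.of κ ⟶ CommRingCat.of (Polynomial κ) := CommRingCat.ofHom Polynomial.C
    let W0 : Over S := Over.mk (Spec.map C0 ≫ V0.hom)
    let π0 : W0 ⟶ V0 := Over.homMk (Spec.map C0) rfl
    let sX : Γ(W0.left, ⊤) := (Scheme.ΓSpecIso (CommRingCat.of (Polynomial κ))).inv Polynomial.X
    obtain ⟨bs, hbs⟩ := exists_co (S := S) (P := N) (T := W0)
      { toFun := fun m => π0.left.appTop (co (ξ ≫ fst _ _) m) * sX ^ lam m.toAdd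
        map_one' := by simp
        map_mul' := fun m k => by simp only [map_mul, toAdd_mul, map_add, pow_add]; ring }
    let pt : W0 ⟶ A := lift bs (π0 ≫ ξ ≫ snd _ _)
    let e0 : CommRingCat.of (Polynomial κ) ⟶ CommRingCat.of κ := CommRingCat.ofHom (Polynomial.evalRingHom 0)
    let o : V0 ⟶ W0 := Over.homMk (Spec.map e0) (by
      show Spec.map e0 ≫ Spec.map C0 ≫ V0.hom = V0.hom
      rw [← Spec.map_comp_assoc, show C0 ≫ e0 = 𝟙 _ from CommRingCat.hom_ext (RingHom.ext fun r => by simp [C0, e0]),
        Spec.map_id, Category.id_comp])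
    have hos : Small lam 1 (o ≫ bs) := by
      intro m hm
      rw [co_comp, hbs]
      show o.left.appTop (π0.left.appTop (co _ _) * sX ^ lam m) = 0
      rw [map_mul, map_pow]
      have : o.left.appTop sX = 0 := by
        show ((Scheme.ΓSpecIso (CommRingCat.of (Polynomial κ))).inv ≫ (Spec.map e0).appTop) Polynomial.X = 0
        rw [← Scheme.ΓSpecIso_inv_naturality]
        show (Scheme.ΓSpecIso (CommRingCat.of κ)).inv (Polynomial.evalRingHom 0 Polynomial.X) = 0
        simp
      rw [this, zero_pow (Nat.one_le_iff_ne_zero.1 hm), mul_zero]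
    let c0 : V0.left := IsLocalRing.closedPoint κ
    have hor : (pt.left) (o.left c0) ∈ O := by
      refine hsmall V0 (o ≫ bs) (o ≫ π0 ≫ ξ ≫ snd _ _) hos ⟨c0, ?_⟩
      rw [← comp_lift]
      rfl
    let L := AlgebraicClosure (FractionRing (Polynomial κ))
    let jL : Polynomial κ →+* L := algebraMap (Polynomial κ) L
    have hjL : Function.Injective jL := by
      rw [show jL = (algebraMap (FractionRing (Polynomial κ)) L).comp (algebraMap (Polynomial κ) _) from
        IsScalarTower.algebraMap_eq _ _ _]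
      exact (algebraMap (FractionRing (Polynomial κ)) L).injective.comp (IsFractionRing.injective _ _)
    let VL : Over S := Over.mk (Spec.map (CommRingCat.ofHom jL) ≫ W0.hom)
    let ζ : VL ⟶ W0 := Over.homMk (Spec.map (CommRingCat.ofHom jL)) rfl
    let cL : VL.left := IsLocalRing.closedPoint L
    have hspec : ζ.left cL ⤳ o.left c0 := by
      refine (PrimeSpectrum.le_iff_specializes _ _).1 ?_
      intro r hr
      have : jL r = 0 := by
        have h' : jL r ∈ IsLocalRing.maximalIdeal L := hr
        rwa [IsLocalRing.maximalIdeal_eq_bot, Ideal.mem_bot] at h'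
      rw [(map_eq_zero_iff jL hjL).1 this]
      exact zero_mem _
    have hgen : (pt.left) (ζ.left cL) ∈ O := (hspec.map pt.left.continuous).mem_open O.2 hor
    have hrange : Set.range (ζ ≫ pt).left ⊆ Set.range O.ι := by
      rintro _ ⟨q, rfl⟩
      rw [Scheme.Opens.range_ι, Subsingleton.elim (α := PrimeSpectrum L) q cL]
      exact hgen
    let z : VL ⟶ opensObj O := Over.homMk (IsOpenImmersion.lift O.ι (ζ ≫ pt).left hrange) (by
      show IsOpenImmersion.lift O.ι (ζ ≫ pt).left hrange ≫ O.ι ≫ A.hom = VL.hom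
      rw [IsOpenImmersion.lift_fac_assoc, Over.w])
    have hz : z ≫ opensι O = ζ ≫ pt := Over.OverMorphism.ext (IsOpenImmersion.lift_fac _ _ _)
    -- the translation
    let uX : Lˣ := Units.mk0 (jL Polynomial.X) fun h0 =>
      Polynomial.X_ne_zero ((map_eq_zero_iff jL hjL).1 h0)
    letI : DivisibleBy (Additive Lˣ) ℕ := MagnetAttr.divisibleUnits L
    letI : DivisibleBy (Additive Lˣ) ℤ := AddGroup.divisibleByIntOfDivisibleByNat _
    obtain ⟨χ, hχ⟩ := exists_extend (N := N) (D := Additive Lˣ)
      ((multiplesHom (Additive Lˣ) (Additive.ofMul uX)).comp lam)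
    let iL : L →+* Γ(VL.left, ⊤) := (Scheme.ΓSpecIso (CommRingCat.of L)).inv.hom
    obtain ⟨g, hg⟩ := exists_co (S := S) (P := M) (T := VL)
      { toFun := fun m => iL ((Additive.toMul (χ m.toAdd) : Lˣ) : L)
        map_one' := by simp
        map_mul' := fun m k => by simp [toAdd_mul, map_add, toMul_add] }
    have hζs : ζ.left.appTop sX = iL (jL Polynomial.X) := by
      show ((Scheme.ΓSpecIso (CommRingCat.of (Polynomial κ))).inv ≫ (Spec.map (CommRingCat.ofHom jL)).appTop) Polynomial.X = _
      rw [← Scheme.ΓSpecIso_inv_naturality]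
      rfl
    have htr : ζ ≫ pt = transl g (ζ ≫ π0 ≫ ξ) := by
      refine CartesianMonoidalCategory.hom_ext _ _ ?_ ?_
      · simp only [pt, transl, lift_fst, Category.assoc]
        refine co_ext fun m => ?_
        rw [co_comp, hbs, co_mul, co_map, hg]
        show ζ.left.appTop (π0.left.appTop (co (ξ ≫ fst _ _) m) * sX ^ lam m.toAdd) =
          iL ((Additive.toMul (χ ((m.toAdd : N) : M)) : Lˣ) : L) * co (ζ ≫ π0 ≫ ξ ≫ fst _ _) m
        rw [map_mul, map_pow, hζs, hχ, mul_comm]
        simp only [co_comp]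
        congr 1
        simp [uX, toMul_nsmul]
      · simp only [pt, transl, lift_snd, Category.assoc]
    let q : VL ⟶ AMonS S M ⊗ opensObj O := lift (g ≫ neg S M) z
    refine ⟨q.left cL, ?_⟩
    have hq : q ≫ orbit O = ζ ≫ π0 ≫ ξ := by
      rw [orbit, comp_transl]
      simp only [q, lift_fst, lift_snd_assoc, hz, htr, transl_neg]
    show (q ≫ orbit O).left cL = p
    rw [hq, Over.comp_left, Over.comp_left, Scheme.Hom.comp_apply, Scheme.Hom.comp_apply]
    exact Scheme.fromSpecResidueField_apply (X := A.left) p _⟩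

/-- Equivariant families agreeing on all neighbourhoods of a face agree. -/
theorem eq_of_agree_small (lam : N →+ ℕ) (T : Over S) [IsAffine T.left] {X : Over S}
    (a : MonAct (AMonS S M) X) (φ φ' : (attr a N).obj (op T))
    (h : ∀ (n : ℕ) (W : Over S) (b : W ⟶ AMonS S N) (t : W ⟶ T), Small lam n b → lift b t ≫ φ.1 = lift b t ≫ φ'.1) :
    φ = φ' := by
  classical
  obtain ⟨O, hO, hsmall⟩ := exists_open_agree lam T φ.1 φ'.1 h
  let G := AMonS S M
  let Ov := opensObj O
  let j := opensι O
  have hj : j ≫ φ.1 = j ≫ φ'.1 := Over.OverMorphism.ext hO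
  have heqv : ∀ (ψ : (attr a N).obj (op T)),
      orbit O ≫ ψ.1 = lift (fst G Ov) (snd G Ov ≫ j ≫ ψ.1) ≫ a.act := by
    intro ψ
    have e := (MonAct.mem_eqvHom_iff ψ.1).1 ψ.2 _ (fst G Ov) (snd G Ov ≫ j ≫ fst _ _) (snd G Ov ≫ j ≫ snd _ _)
    simp only [subAct, MonAct.lift_restrict_act, MonAct.lift_regular_act] at e
    simp only [orbit, transl, Category.assoc]
    rw [e, show lift (snd G Ov ≫ j ≫ fst _ _) (snd G Ov ≫ j ≫ snd _ _) = (snd G Ov ≫ j) from by
      rw [← comp_lift, ← comp_lift, lift_fst_snd, Category.comp_id], Category.assoc]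
  haveI := flat_orbit (M := M) O
  haveI := surjective_orbit (M := M) lam O hsmall
  haveI : Epi (orbit (M := M) O).left := Flat.epi_of_flat_of_surjective _
  refine Subtype.ext (Over.OverMorphism.ext ((cancel_epi (orbit (M := M) O).left).1 ?_))
  exact congrArg CommaMorphism.left ((heqv φ).trans ((congrArg (fun e => lift (fst G Ov) (snd G Ov ≫ e) ≫ a.act) hj).trans (heqv φ').symm))

end Groth.Agent.MagnetEtale
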